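import Cfsg.Agent.USixFusion.Count
import Cfsg.Agent.FusionFrame.AutCard

/-!
An involution whose centraliser is the double cover: exactly twenty-two of its conjugates lie in the elementary group
of order `2 ^ 10`, and the normaliser of that group permutes them transitively.
-/

set_option autoImplicit false
set_option linter.unusedSectionVars false
set_option linter.style.haveILetI false

namespace Cfsg.Lib.USixFusion

open Cfsg.Lib.Classical Cfsg.Lib.ThreeTr Subgroup

universe u v w w'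

theorem size_cases {a c e n : ℕ} (ha : a ≤ 2) (hc : c ≤ 2) (he : e ≤ 2) (hn : n = 1 + 21 * a + 210 * c + 280 * e)
    (hd : n ∣ ∏ i : Fin 10, (2 ^ 10 - 2 ^ (i : ℕ))) :
    n = 1 ∨ n = 22 ∨ (a = 0 ∧ c = 0 ∧ e = 2) ∨ (a = 1 ∧ c = 1 ∧ 1 ≤ e) ∨ (a = 2 ∧ c = 2 ∧ e = 2) := by
  subst hn
  simp only [Fin.prod_univ_succ, Fin.prod_univ_zero, Fin.val_zero, Fin.val_succ] at hd
  interval_cases a <;> interval_cases c <;> interval_cases e <;> first | omega | (norm_num at hd)

variable {F : Type u} [Field F] [Finite F] {V : Type v} [AddCommGroup V] [Module F V] {Q : Type w'} [Group Q]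
  {G : Type w} [Group G] [Finite G] {d : G}

section

variable (U : Setup F V ↥(centralizer ({d} : Set G)) Q) (hz : (U.z : G) = d) (K : Coord U.H)
/-- The group in the whole. -/
noncomputable def whole : Subgroup G := (U.grp K).map (centralizer ({d} : Set G)).subtype

include hz

omit hz in
theorem mem_top_grp {x : G} : x ∈ (whole U K) ↔ ∃ c, c ∈ U.grp K ∧ (c : G) = x := Iff.rfl

theorem d_mem : d ∈ (whole U K) := (mem_top_grp U K).2 ⟨U.z, U.z_mem K, hz⟩

omit hz in
theorem top_comm {x y : G} (hx : x ∈ (whole U K)) (hy : y ∈ (whole U K)) : Commute x y := by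
  obtain ⟨a, ha, rfl⟩ := (mem_top_grp U K).1 hx
  obtain ⟨b, hb, rfl⟩ := (mem_top_grp U K).1 hy
  exact (U.grp_comm K ha hb).map (centralizer ({d} : Set G)).subtype

/-- The normaliser moves `d` to each of its conjugates in the group. -/
theorem normalizer_moves {x : G} (hx : x ∈ (whole U K)) (hc : IsConj d x) :
    ∃ n ∈ normalizer (((whole U K) : Subgroup G) : Set G), n * d * n⁻¹ = x := by
  obtain ⟨g, rfl⟩ := isConj_iff.1 hc
  let E : Subgroup ↥(centralizer ({d} : Set G)) := ((whole U K)).comap ((MulAut.conj g).toMonoidHom.comp (centralizer ({d} : Set G)).subtype)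
  have hpre : ∀ a ∈ (whole U K), g⁻¹ * a * g ∈ (centralizer ({d} : Set G)) := fun a ha => by
    refine mem_centralizer_singleton_iff.2 ?_
    calc g⁻¹ * a * g * d = g⁻¹ * (a * (g * d * g⁻¹)) * g := by group
      _ = g⁻¹ * (g * d * g⁻¹ * a) * g := by rw [(top_comm U K ha hx).eq]
      _ = d * (g⁻¹ * a * g) := by group
  have hsq : ∀ c ∈ E, c * c = 1 := fun c hc => by
    obtain ⟨a, ha, e⟩ := (mem_top_grp U K).1 hc
    refine Subtype.ext ?_
    have e' : (a : G) = g * c.1 * g⁻¹ := e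
    have h1 := congrArg Subtype.val (U.grp_sq K ha)
    rw [coe_mul, e'] at h1
    calc c.1 * c.1 = g⁻¹ * (g * c.1 * g⁻¹ * (g * c.1 * g⁻¹)) * g := by group
      _ = (1 : G) := by rw [h1]; simp
  have hcard : 1024 ≤ Nat.card ↥E := by
    rw [← U.card_grp K]
    refine Nat.card_le_card_of_injective (fun a => ⟨⟨g⁻¹ * (a.1 : G) * g, hpre _ ⟨a.1, a.2, rfl⟩⟩, ?_⟩) fun a b e => ?_
    · show g * (g⁻¹ * (a.1 : G) * g) * g⁻¹ ∈ (whole U K)
      rw [show g * (g⁻¹ * (a.1 : G) * g) * g⁻¹ = (a.1 : G) by group]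
      exact ⟨a.1, a.2, rfl⟩
    · have e' := congrArg (fun t : ↥E => ((t.1 : ↥(centralizer ({d} : Set G))) : G)) e
      exact Subtype.ext (Subtype.ext (mul_left_cancel (mul_right_cancel e')))
  obtain ⟨k, hk⟩ := U.exists_conj_grp K hsq hcard
  refine ⟨g * (k : G)⁻¹, mem_normalizer_iff.2 fun a => ?_, ?_⟩
  · constructor
    · intro ha
      obtain ⟨c, hc, rfl⟩ := (mem_top_grp U K).1 ha
      obtain ⟨y, hy, e⟩ := hk.ge hc
      have e' : (k : G) * y.1 * (k : G)⁻¹ = c.1 := congrArg Subtype.val e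
      rw [show g * (k : G)⁻¹ * c.1 * (g * (k : G)⁻¹)⁻¹ = g * ((k : G)⁻¹ * c.1 * (k : G)) * g⁻¹ by group, ← e',
        show (k : G)⁻¹ * ((k : G) * y.1 * (k : G)⁻¹) * (k : G) = y.1 by group]
      exact hy
    · intro ha
      have hm : g⁻¹ * (g * (k : G)⁻¹ * a * (g * (k : G)⁻¹)⁻¹) * g ∈ (centralizer ({d} : Set G)) := hpre _ ha
      have hy : (⟨_, hm⟩ : ↥(centralizer ({d} : Set G))) ∈ E := by
        show g * (g⁻¹ * (g * (k : G)⁻¹ * a * (g * (k : G)⁻¹)⁻¹) * g) * g⁻¹ ∈ (whole U K)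
        rw [show g * (g⁻¹ * (g * (k : G)⁻¹ * a * (g * (k : G)⁻¹)⁻¹) * g) * g⁻¹ =
          g * (k : G)⁻¹ * a * (g * (k : G)⁻¹)⁻¹ by group]
        exact ha
      refine ⟨_, hk.le ⟨_, hy, rfl⟩, ?_⟩
      show (k : G) * (g⁻¹ * (g * (k : G)⁻¹ * a * (g * (k : G)⁻¹)⁻¹) * g) * (k : G)⁻¹ = a
      group
  · have hk' : (k : G) * d = d * k := mem_centralizer_singleton_iff.1 k.2
    calc g * (k : G)⁻¹ * d * (g * (k : G)⁻¹)⁻¹ = g * ((k : G)⁻¹ * (d * k)) * g⁻¹ := by group
      _ = g * d * g⁻¹ := by rw [← hk']; group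

omit hz in
theorem orbit_dvd (hd : d ∈ (whole U K)) (hmv : ∀ x ∈ (whole U K), IsConj d x → ∃ n ∈ normalizer (((whole U K) : Subgroup G) : Set G), n * d * n⁻¹ = x) :
    {x : G | x ∈ (whole U K) ∧ IsConj d x}.ncard ∣ ∏ i : Fin 10, (2 ^ 10 - 2 ^ (i : ℕ)) := by
  classical
  set A := ((whole U K)) with hA
  letI : CommGroup ↥A := { (inferInstance : Group ↥A) with
    mul_comm := fun x y => Subtype.ext (top_comm U K x.2 y.2).eq }
  have hcard : Nat.card ↥A = 2 ^ 10 := by
    rw [hA, whole, Subgroup.card_subtype, U.card_grp K]; norm_num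
  have hsq : ∀ x : ↥A, x * x = 1 := fun x => by
    obtain ⟨a, ha, e⟩ := (mem_top_grp U K).1 x.2
    refine Subtype.ext ?_
    rw [coe_mul, ← e, ← coe_mul, U.grp_sq K ha]; rfl
  let act : ↥(normalizer (A : Set G)) →* MulAut ↥A :=
    { toFun := fun n =>
        { toFun := fun x => ⟨n.1 * x.1 * n.1⁻¹, (mem_normalizer_iff.1 n.2 x.1).1 x.2⟩
          invFun := fun x => ⟨n.1⁻¹ * x.1 * n.1, by simpa using (mem_normalizer_iff.1 (inv_mem n.2) x.1).1 x.2⟩
          left_inv := fun x => Subtype.ext (show n.1⁻¹ * (n.1 * x.1 * n.1⁻¹) * n.1 = x.1 by group)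
          right_inv := fun x => Subtype.ext (show n.1 * (n.1⁻¹ * x.1 * n.1) * n.1⁻¹ = x.1 by group)
          map_mul' := fun x y => Subtype.ext
            (show n.1 * (x.1 * y.1) * n.1⁻¹ = n.1 * x.1 * n.1⁻¹ * (n.1 * y.1 * n.1⁻¹) by group) }
      map_one' := MulEquiv.ext fun x => Subtype.ext (show (1 : G) * x.1 * (1 : G)⁻¹ = x.1 by group)
      map_mul' := fun n m => MulEquiv.ext fun x => Subtype.ext
        (show n.1 * m.1 * x.1 * (n.1 * m.1)⁻¹ = n.1 * (m.1 * x.1 * m.1⁻¹) * n.1⁻¹ by group) }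
  let d' : ↥A := ⟨d, hd⟩
  have horb : {x : G | x ∈ A ∧ IsConj d x} = Subtype.val '' (MulAction.orbit ↥act.range d') := by
    ext x
    constructor
    · rintro ⟨hx, hc⟩
      obtain ⟨n, hn, e⟩ := hmv x hx hc
      exact ⟨⟨x, hx⟩, ⟨⟨act ⟨n, hn⟩, _, rfl⟩, Subtype.ext e⟩, rfl⟩
    · rintro ⟨_, ⟨⟨γ, n, rfl⟩, rfl⟩, rfl⟩
      exact ⟨(act n d').2, isConj_iff.2 ⟨n.1, rfl⟩⟩
  rw [horb, Set.ncard_image_of_injective _ Subtype.val_injective, ← Nat.card_coe_set_eq]
  refine dvd_trans ?_ (dvd_trans (Subgroup.card_subgroup_dvd_card act.range) ?_)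
  · rw [Nat.card_congr (MulAction.orbitEquivQuotientStabilizer ↥act.range d'), ← Subgroup.index_eq_card]
    exact Subgroup.index_dvd_card _
  · refine dvd_trans (Cfsg.Lib.FusionFrame.mulAut_card_dvd hsq hcard) ?_
    rw [Matrix.card_GL_field]
    simp [ZMod.card]

/-- The conjugates of `d` in the group, given one other than `d`. -/
theorem ncard_conjugates (hperf : commutator ↥(centralizer ({d} : Set G)) = ⊤) (hQ : Nat.card Q = 9196830720)
    (hw : ∃ g : G, g * d * g⁻¹ ∈ centralizer ({d} : Set G) ∧ g * d * g⁻¹ ≠ d) :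
    {x : G | x ∈ (whole U K) ∧ IsConj d x}.ncard = 22 := by
  classical
  have hd2 : d * d = 1 := by rw [← hz, ← coe_mul, U.double.sq]; rfl
  have hd1 : d ≠ 1 := fun e => U.z_ne (Subtype.ext (hz.trans e))
  set O : Set ↥(centralizer ({d} : Set G)) := {c | c ∈ U.grp K ∧ IsConj d (c : G)} with hOdef
  have himg : {x : G | x ∈ (whole U K) ∧ IsConj d x} = Subtype.val '' O := by
    ext x
    constructor
    · rintro ⟨hx, hc⟩
      obtain ⟨c, hcK, rfl⟩ := (mem_top_grp U K).1 hx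
      exact ⟨c, ⟨hcK, hc⟩, rfl⟩
    · rintro ⟨c, ⟨hcK, hc⟩, rfl⟩
      exact ⟨⟨c, hcK, rfl⟩, hc⟩
  have hinv : ∀ x ∈ O, ∀ c : ↥(centralizer ({d} : Set G)), (∀ y ∈ U.grp K, c * y * c⁻¹ ∈ U.grp K) → c * x * c⁻¹ ∈ O := fun x hx c hc =>
    ⟨hc x hx.1, hx.2.trans (isConj_iff.2 ⟨(c : G), rfl⟩)⟩
  have h1O : (1 : ↥(centralizer ({d} : Set G))) ∉ O := fun h => hd1 (isConj_one_right.1 h.2.symm)
  have hzO : U.z ∈ O := ⟨U.z_mem K, (show IsConj d (U.z : G) by rw [hz])⟩
  have hcount := U.ncard_set K hinv (fun x hx => hx.1) h1O hzO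
  -- transport along the normaliser
  have hmove : ∀ x ∈ O, ∃ n : G, n * d * n⁻¹ = (x : G) ∧
      ∀ y ∈ U.grp K, ∃ y' ∈ U.grp K, (y' : G) = n⁻¹ * y * n ∧ (y' ∈ O ↔ y ∈ O) := by
    intro x hx
    obtain ⟨n, hn, e⟩ := normalizer_moves U hz K ⟨x, hx.1, rfl⟩ hx.2
    refine ⟨n, e, fun y hy => ?_⟩
    obtain ⟨y', hy', e'⟩ := (mem_top_grp U K).1
      ((mem_normalizer_iff.1 (inv_mem hn) (y : G)).1 ⟨y, hy, rfl⟩)
    rw [inv_inv] at e'
    have hcj : IsConj (y : G) (y' : G) := isConj_iff.2 ⟨n⁻¹, by rw [inv_inv, e']⟩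
    exact ⟨y', hy', e', ⟨fun h => ⟨hy, h.2.trans hcj.symm⟩, fun h => ⟨hy', h.2.trans hcj⟩⟩⟩
  rw [himg, Set.ncard_image_of_injective _ Subtype.val_injective]
  have hdvd := orbit_dvd U K (d_mem U hz K) fun x hx hc => normalizer_moves U hz K hx hc
  rw [himg, Set.ncard_image_of_injective _ Subtype.val_injective] at hdvd
  rcases size_cases (U.fib_le K O _) (U.fib_le K O _) (U.fib_le K O _) hcount hdvd with h | h | h | h | h
  · -- a second conjugate
    exfalso
    obtain ⟨g, hgC, hgne⟩ := hw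
    set y : ↥(centralizer ({d} : Set G)) := ⟨g * d * g⁻¹, hgC⟩ with hy
    have hyy : y * y = 1 := Subtype.ext (by
      show g * d * g⁻¹ * (g * d * g⁻¹) = 1
      rw [show g * d * g⁻¹ * (g * d * g⁻¹) = g * (d * d) * g⁻¹ by group, hd2]; group)
    obtain ⟨t, ht⟩ := U.φsurj (U.π y)
    have ht3 : (t * t * t) * (t * t * t) = 1 := by
      have h' := U.ker_cube (g := t * t) (by rw [map_mul, ht, ← map_mul, hyy, map_one])
      rw [show (t * t) ^ 3 = (t * t * t) * (t * t * t) by simp [pow_succ, mul_assoc]] at h'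
      exact h'
    have htφ : U.φ (t * t * t) = U.π y := by rw [map_mul, map_mul, ht, ← map_mul, hyy, map_one, one_mul]
    obtain ⟨K', hK'⟩ := exists_coord_fixed U.six ht3
    obtain ⟨f, hf⟩ := K'.exists_el hK'
    obtain ⟨g', hg'⟩ := U.exists_conj_grp K (fun x hx => U.grp_sq K' hx) (U.card_grp K').ge
    have hmem : g' * y * g'⁻¹ ∈ O :=
      ⟨hg'.le ⟨y, (U.mem_grp K').2 ⟨f, by rw [← hf, htφ]⟩, rfl⟩,
        (isConj_iff.2 ⟨g, rfl⟩ : IsConj d (y : G)).trans (isConj_iff.2 ⟨(g' : G), rfl⟩)⟩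
    obtain ⟨w, hw'⟩ := Set.ncard_eq_one.1 h
    rw [hw'] at hmem hzO
    have e : g' * y * g'⁻¹ = U.z := (Set.mem_singleton_iff.1 hmem).trans (Set.mem_singleton_iff.1 hzO).symm
    refine hgne ?_
    have e2 : y = U.z := by
      calc y = g'⁻¹ * (g' * y * g'⁻¹) * g' := by group
        _ = U.z := by rw [e, mul_assoc, (U.double.central g').eq, inv_mul_cancel_left]
    exact (congrArg Subtype.val e2).trans hz
  · exact h
  · -- only the last class
    exfalso
    obtain ⟨ha, hc, he⟩ := h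
    obtain ⟨f, g, hf, hg, hfg⟩ := three_sum
    have hk : ∀ {k : Herm}, k.rank = 3 → U.fib K O k = 2 := fun hk => by rw [U.fib_rank K hinv, hk, he]
    set x := U.sec K f
    set y := U.sec K g
    have hx : x ∈ O := U.fib_two K (hk hf) (U.π_sec K f)
    have hy : y ∈ O := U.fib_two K (hk hg) (U.π_sec K g)
    have hxy : x * y ∉ O := U.fib_zero K (h := f.add g) (by rw [U.fib_rank K hinv, hfg, ha])
      (by rw [map_mul, U.π_sec, U.π_sec, ← map_mul, K.el_mul])
    obtain ⟨n, hn, hmv⟩ := hmove x hx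
    obtain ⟨y', hy', e', hiff⟩ := hmv y hy.1
    obtain ⟨m, em⟩ := (U.mem_grp K).1 hy'
    have hy'O := hiff.2 hy
    obtain ⟨q, hq, eq', hiff'⟩ := hmv (x * y) (mul_mem hx.1 hy.1)
    have hqv : q = U.z * y' := Subtype.ext (by
      rw [eq', coe_mul, coe_mul, e', hz, ← hn]; group)
    refine hxy (hiff'.1 (hqv ▸ ?_))
    obtain ⟨r1, r2, r3, r0, hle⟩ := rank_sizes
    have hm3 : m.rank = 3 := by
      have := hle m
      rcases (show m.rank = 0 ∨ m.rank = 1 ∨ m.rank = 2 ∨ m.rank = 3 by omega) with r | r | r | r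
      · exfalso
        have hm0 : m = Herm.zero := Finset.mem_singleton.1 (r0 ▸ Finset.mem_filter.2 ⟨Finset.mem_univ _, r⟩)
        rw [hm0, K.el_zero, map_one] at em
        rcases U.double.ker y' em.symm with k | k
        · exact h1O (k ▸ hy'O)
        · -- the two members coincide
          rw [k, hz] at e'
          have : (y : G) = x := by
            calc (y : G) = n * (n⁻¹ * (y : G) * n) * n⁻¹ := by group
              _ = (x : G) := by rw [← e', hn]
          have hfg' : f = g := U.bar_inj K (by rw [← U.π_sec, ← U.π_sec]; exact congrArg U.π (Subtype.ext this.symm))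
          rw [hfg', show g.add g = Herm.zero from (add_self_code g)] at hfg
          exact absurd hfg (by decide +kernel)
      · exact absurd hy'O (U.fib_zero K (by rw [U.fib_rank K hinv, r, ha]) em.symm)
      · exact absurd hy'O (U.fib_zero K (by rw [U.fib_rank K hinv, r, hc]) em.symm)
      · exact r
    exact U.fib_two K (hk hm3) (by rw [map_mul, U.z_ker, one_mul, em])
  · -- one sheet on the first two classes
    exfalso
    obtain ⟨ha, hc, he⟩ := h
    have hother : ∀ x ∈ U.grp K, x ∉ O → x ≠ 1 → U.z * x ∈ O := by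
      intro x hx hxO hx1
      obtain ⟨m, em⟩ := (U.mem_grp K).1 hx
      obtain ⟨r1, r2, r3, r0, hle⟩ := rank_sizes
      have := hle m
      rcases (show m.rank = 0 ∨ m.rank = 1 ∨ m.rank = 2 ∨ m.rank = 3 by omega) with r | r | r | r
      · have hm0 : m = Herm.zero := Finset.mem_singleton.1 (r0 ▸ Finset.mem_filter.2 ⟨Finset.mem_univ _, r⟩)
        rw [hm0, K.el_zero, map_one] at em
        rcases U.double.ker x em.symm with k | k
        · exact absurd k hx1
        · exact absurd (k ▸ hzO) hxO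
      · by_contra hzx
        exact hxO ((U.fib_one K (by rw [U.fib_rank K hinv, r, ha]) em.symm).2 hzx)
      · by_contra hzx
        exact hxO ((U.fib_one K (by rw [U.fib_rank K hinv, r, hc]) em.symm).2 hzx)
      · have hle2 := U.fib_le K O (rep 3)
        rcases (show U.fib K O (rep 3) = 1 ∨ U.fib K O (rep 3) = 2 by omega) with k | k
        · by_contra hzx
          exact hxO ((U.fib_one K (by rw [U.fib_rank K hinv, r, k]) em.symm).2 hzx)
        · exact U.fib_two K (h := m) (by rw [U.fib_rank K hinv, r, k]) (by rw [map_mul, U.z_ker, one_mul, em])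
    have hclosed : ∀ p ∈ U.grp K, ∀ q ∈ U.grp K, p ∉ O → q ∉ O → p * q ∉ O := by
      intro p hp q hq hpO hqO hpq
      by_cases hp1 : p = 1
      · exact hqO (by rwa [hp1, one_mul] at hpq)
      obtain ⟨n, hn, hmv⟩ := hmove (p * q) hpq
      obtain ⟨p', hp', ep, hiffp⟩ := hmv p hp
      obtain ⟨q', hq', eq', hiffq⟩ := hmv q hq
      have hpq' : p' * q' = U.z := Subtype.ext (by
        rw [coe_mul, ep, eq', hz]
        calc n⁻¹ * (p : G) * n * (n⁻¹ * (q : G) * n) = n⁻¹ * ((p : G) * q) * n := by group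
          _ = d := by rw [← coe_mul, ← hn]; group)
      have hq'v : q' = U.z * p' := by
        rw [eq_inv_mul_of_mul_eq hpq', inv_eq_of_mul_eq_one_right (U.grp_sq K hp'), (U.double.central p').eq]
      have hp'1 : p' ≠ 1 := fun k => hp1 (Subtype.ext (by
        rw [k, OneMemClass.coe_one] at ep
        calc (p : G) = n * (n⁻¹ * (p : G) * n) * n⁻¹ := by group
          _ = ((1 : ↥(centralizer ({d} : Set G))) : G) := by rw [← ep]; simp))
      exact hqO (hiffq.1 (hq'v ▸ hother p' hp' (fun k => hpO (hiffp.1 k)) hp'1))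
    let Hc : Subgroup ↥(centralizer ({d} : Set G)) :=
      { carrier := {x | x ∈ U.grp K ∧ x ∉ O}
        mul_mem' := fun {p q} hp hq => ⟨mul_mem hp.1 hq.1, hclosed p hp.1 q hq.1 hp.2 hq.2⟩
        one_mem' := ⟨one_mem _, h1O⟩
        inv_mem' := fun {p} hp => by rwa [inv_eq_of_mul_eq_one_right (U.grp_sq K hp.1)] }
    have he1 : U.fib K O (rep 3) = 1 := by
      have hle2 := U.fib_le K O (rep 3)
      by_contra hne
      have he2 : U.fib K O (rep 3) = 2 := by omega
      obtain ⟨f, g, hf, hg, hfg⟩ := one_two_sum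
      have hget : ∀ h, U.fib K O h = 1 → ∃ t ∈ U.grp K, t ∉ O ∧ U.π t = U.φ (K.el h) := fun h h1 => by
        by_cases hs : U.sec K h ∈ O
        · exact ⟨U.z * U.sec K h, mul_mem (U.z_mem K) (U.sec_mem K h), (U.fib_one K h1 (U.π_sec K h)).1 hs,
            by rw [map_mul, U.z_ker, one_mul, U.π_sec]⟩
        · exact ⟨_, U.sec_mem K h, hs, U.π_sec K h⟩
      obtain ⟨p, hp, hpO, ep⟩ := hget f (by rw [U.fib_rank K hinv, hf, ha])
      obtain ⟨q, hq, hqO, eq'⟩ := hget g (by rw [U.fib_rank K hinv, hg, hc])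
      refine hclosed p hp q hq hpO hqO (U.fib_two K (h := f.add g) (by rw [U.fib_rank K hinv, hfg, he2]) ?_)
      rw [map_mul, ep, eq', ← map_mul, K.el_mul]
    refine U.no_invariant_complement K hperf hQ (Hc := Hc) (fun x hx => hx.1) (fun hx => hx.2 hzO)
      (fun x hx => ?_) (fun n hn x hx => ⟨hn x hx.1, fun k => hx.2 ?_⟩)
    · by_cases hxO : x ∈ O
      · refine Or.inr ⟨mul_mem (U.z_mem K) hx, ?_⟩
        obtain ⟨m, em⟩ := (U.mem_grp K).1 hx
        obtain ⟨r1, r2, r3, r0, hle⟩ := rank_sizes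
        have := hle m
        rcases (show m.rank = 0 ∨ m.rank = 1 ∨ m.rank = 2 ∨ m.rank = 3 by omega) with r | r | r | r
        · have hm0 : m = Herm.zero := Finset.mem_singleton.1 (r0 ▸ Finset.mem_filter.2 ⟨Finset.mem_univ _, r⟩)
          rw [hm0, K.el_zero, map_one] at em
          rcases U.double.ker x em.symm with k | k
          · exact absurd (k ▸ hxO) h1O
          · rw [k, U.double.sq]; exact h1O
        · exact (U.fib_one K (by rw [U.fib_rank K hinv, r, ha]) em.symm).1 hxO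
        · exact (U.fib_one K (by rw [U.fib_rank K hinv, r, hc]) em.symm).1 hxO
        · exact (U.fib_one K (by rw [U.fib_rank K hinv, r, he1]) em.symm).1 hxO
      · exact Or.inl ⟨hx, hxO⟩
    · -- the normaliser keeps the set
      refine ⟨hx.1, k.2.trans (isConj_iff.2 ⟨(n : G)⁻¹, ?_⟩)⟩
      rw [coe_mul, coe_mul, coe_inv]
      group
  · -- everything
    exfalso
    obtain ⟨ha, hc, he⟩ := h
    have hall : ∀ x ∈ U.grp K, U.π x ≠ 1 → x ∈ O := by
      intro x hx hne
      obtain ⟨m, em⟩ := (U.mem_grp K).1 hx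
      obtain ⟨r1, r2, r3, r0, hle⟩ := rank_sizes
      have := hle m
      refine U.fib_two K (h := m) ?_ em.symm
      rcases (show m.rank = 0 ∨ m.rank = 1 ∨ m.rank = 2 ∨ m.rank = 3 by omega) with r | r | r | r
      · have hm0 : m = Herm.zero := Finset.mem_singleton.1 (r0 ▸ Finset.mem_filter.2 ⟨Finset.mem_univ _, r⟩)
        rw [hm0, K.el_zero, map_one] at em
        exact absurd em.symm hne
      all_goals rw [U.fib_rank K hinv, r]; assumption
    obtain ⟨g0, hg2, hst, hrho⟩ := U.exists_elementary K ⟨0, 1, .i⟩ (by decide)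
    obtain ⟨c0, hc0⟩ := U.double.surj (U.φ g0)
    have hc02 : c0 * c0 = 1 := U.lift_sq (by rw [hc0, ← map_mul, hg2, map_one])
    have hc0i : c0⁻¹ = c0 := inv_eq_of_mul_eq_one_right hc02
    have hc0m : ∀ y ∈ U.grp K, c0 * y * c0⁻¹ ∈ U.grp K := fun y hy => U.conj_grp K hst hc0 hy
    set e0 := U.sec K (rep 2)
    have he0 : e0 ∈ U.grp K := U.sec_mem K _
    set x := c0 * e0 * c0⁻¹ * e0 with hxdef
    have hxm : x ∈ U.grp K := mul_mem (hc0m _ he0) he0
    have hxπ : U.π x ≠ 1 := fun k => by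
      rw [hxdef, map_mul, map_mul, map_mul, map_inv, hc0, U.π_sec, ← map_inv, ← map_mul, ← map_mul] at k
      have k1 := mul_eq_one_iff_eq_inv.1 k
      rw [← map_inv, inv_eq_of_mul_eq_one_right (K.el_sq (rep 2))] at k1
      have k2 : g0 * K.el (rep 2) * g0⁻¹ = K.el (rep 2) := U.φ_inj k1 (U.e_ne K 0) (by
        rw [K.el_fixes]
        obtain ⟨m, hm⟩ := K.exists_el (g := g0 * K.el (rep 2) * g0⁻¹) fun i => by
          rw [Coord.el, K.frame.el_conj K.six hst (K.prim.herm_isHerm K.six _)]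
          exact K.frame.acts_fixes (K.frame.el_acts K.six (Frame.congr_herm (K.prim.herm_isHerm K.six _) _)) i
        rw [hm, K.el_fixes])
      exact absurd ((K.el_conj_iff hst hrho (rep 2)).1 k2) (by decide +kernel)
    obtain ⟨n, hn, hmv⟩ := hmove x (hall x hxm hxπ)
    have hcx : c0 * x * c0⁻¹ = x := by
      rw [hxdef, hc0i]
      calc c0 * (c0 * e0 * c0 * e0) * c0 = (c0 * c0) * e0 * (c0 * e0 * c0) := by simp only [mul_assoc]
        _ = e0 * (c0 * e0 * c0⁻¹) := by rw [hc02, one_mul, hc0i]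
        _ = c0 * e0 * c0⁻¹ * e0 := (U.grp_comm K he0 (hc0m _ he0)).eq
        _ = _ := by rw [hc0i]
    have hcx' : (c0 : G) * x = x * c0 := by
      have := congrArg Subtype.val (mul_inv_eq_iff_eq_mul.1 hcx)
      simpa using this
    have hmemC : n⁻¹ * (c0 : G) * n ∈ (centralizer ({d} : Set G)) := mem_centralizer_singleton_iff.2 (by
      calc n⁻¹ * (c0 : G) * n * d = n⁻¹ * ((c0 : G) * (n * d * n⁻¹)) * n := by group
        _ = n⁻¹ * ((n * d * n⁻¹) * (c0 : G)) * n := by rw [hn, hcx']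
        _ = d * (n⁻¹ * (c0 : G) * n) := by group)
    set c' : ↥(centralizer ({d} : Set G)) := ⟨_, hmemC⟩
    have hc'2 : c' * c' = 1 := Subtype.ext (by
      show n⁻¹ * (c0 : G) * n * (n⁻¹ * (c0 : G) * n) = 1
      rw [show n⁻¹ * (c0 : G) * n * (n⁻¹ * (c0 : G) * n) = n⁻¹ * ((c0 : G) * c0) * n by group, ← coe_mul, hc02]
      simp)
    obtain ⟨e', he', ee, -⟩ := hmv e0 he0
    have hrel : c' * e' * c'⁻¹ = U.z * e' := Subtype.ext (by
      show n⁻¹ * (c0 : G) * n * (e' : G) * (n⁻¹ * (c0 : G) * n)⁻¹ = (U.z : G) * e'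
      rw [ee, hz]
      have hx' : (c0 : G) * e0 * (c0 : G)⁻¹ = x * e0 := by
        have h2 := congrArg Subtype.val (U.grp_sq K he0)
        rw [coe_mul, OneMemClass.coe_one] at h2
        rw [hxdef, coe_mul, coe_mul, coe_mul, coe_inv, mul_assoc _ (e0 : G) (e0 : G), h2, mul_one]
      calc n⁻¹ * (c0 : G) * n * (n⁻¹ * (e0 : G) * n) * (n⁻¹ * (c0 : G) * n)⁻¹
          = n⁻¹ * ((c0 : G) * e0 * (c0 : G)⁻¹) * n := by group
        _ = d * (n⁻¹ * (e0 : G) * n) := by rw [hx', ← hn]; group)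
    have hec : Commute c' e' := by
      have hπc : Commute (U.π c') (U.π e') := by
        have := congrArg U.π hrel
        rw [map_mul, map_mul, map_inv, map_mul, U.z_ker, one_mul] at this
        exact mul_inv_eq_iff_eq_mul.1 this
      have h2 : (c' * e') * (c' * e') = 1 := U.lift_sq (by
        rw [map_mul, hπc.symm.mul_mul_mul_comm, ← map_mul, ← map_mul, hc'2, U.grp_sq K he', map_one, one_mul])
      show c' * e' = e' * c'
      calc c' * e' = (c' * e')⁻¹ := eq_inv_of_mul_eq_one_left h2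
        _ = e' * c' := by rw [_root_.mul_inv_rev, inv_eq_of_mul_eq_one_right hc'2,
            inv_eq_of_mul_eq_one_right (U.grp_sq K he')]
    rw [hec.eq, mul_inv_cancel_right] at hrel
    exact U.z_ne (mul_eq_right.1 hrel.symm)
where
  add_self_code : ∀ g : Herm, g.add g = Herm.zero := by decide +kernel

end

end Cfsg.Lib.USixFusion
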