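import Mathlib

/-!
Hermitian three by three matrices over a table for the field with four elements: congruence classes and the fixed
matrices of unipotent elements.
-/

set_option autoImplicit false

namespace Cfsg.Lib.USixFusion

/-- A table for the field with four elements. -/
inductive Q4 | o | i | w | v
  deriving DecidableEq

instance : Fintype Q4 := ⟨{.o, .i, .w, .v}, fun x => by cases x <;> decide⟩

namespace Q4

/-- Sum. -/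
def add : Q4 → Q4 → Q4
  | o, b => b
  | a, o => a
  | i, i => o
  | i, w => v
  | i, v => w
  | w, i => v
  | w, w => o
  | w, v => i
  | v, i => w
  | v, w => i
  | v, v => o

/-- Product. -/
def mul : Q4 → Q4 → Q4
  | o, _ => o
  | _, o => o
  | i, b => b
  | a, i => a
  | w, w => v
  | w, v => i
  | v, w => i
  | v, v => w

/-- Conjugate. -/
def conj : Q4 → Q4
  | o => o
  | i => i
  | w => v
  | v => w

end Q4

/-- A square matrix of order three of codes. -/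
structure M3 where
  a00 : Q4
  a01 : Q4
  a02 : Q4
  a10 : Q4
  a11 : Q4
  a12 : Q4
  a20 : Q4
  a21 : Q4
  a22 : Q4
  deriving DecidableEq

namespace M3

open Q4

/-- Product. -/
def mul (X Y : M3) : M3 :=
  ⟨(add (add (Q4.mul X.a00 Y.a00) (Q4.mul X.a01 Y.a10)) (Q4.mul X.a02 Y.a20)),
    (add (add (Q4.mul X.a00 Y.a01) (Q4.mul X.a01 Y.a11)) (Q4.mul X.a02 Y.a21)),
    (add (add (Q4.mul X.a00 Y.a02) (Q4.mul X.a01 Y.a12)) (Q4.mul X.a02 Y.a22)),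
    (add (add (Q4.mul X.a10 Y.a00) (Q4.mul X.a11 Y.a10)) (Q4.mul X.a12 Y.a20)),
    (add (add (Q4.mul X.a10 Y.a01) (Q4.mul X.a11 Y.a11)) (Q4.mul X.a12 Y.a21)),
    (add (add (Q4.mul X.a10 Y.a02) (Q4.mul X.a11 Y.a12)) (Q4.mul X.a12 Y.a22)),
    (add (add (Q4.mul X.a20 Y.a00) (Q4.mul X.a21 Y.a10)) (Q4.mul X.a22 Y.a20)),
    (add (add (Q4.mul X.a20 Y.a01) (Q4.mul X.a21 Y.a11)) (Q4.mul X.a22 Y.a21)),
    (add (add (Q4.mul X.a20 Y.a02) (Q4.mul X.a21 Y.a12)) (Q4.mul X.a22 Y.a22))⟩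

/-- Sum. -/
def add (X Y : M3) : M3 :=
  ⟨Q4.add X.a00 Y.a00, Q4.add X.a01 Y.a01, Q4.add X.a02 Y.a02, Q4.add X.a10 Y.a10, Q4.add X.a11 Y.a11, Q4.add X.a12 Y.a12, Q4.add X.a20 Y.a20, Q4.add X.a21 Y.a21, Q4.add X.a22 Y.a22⟩

/-- Conjugate transpose. -/
def star (X : M3) : M3 :=
  ⟨Q4.conj X.a00, Q4.conj X.a10, Q4.conj X.a20, Q4.conj X.a01, Q4.conj X.a11, Q4.conj X.a21, Q4.conj X.a02, Q4.conj X.a12, Q4.conj X.a22⟩

/-- Congruence. -/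
def congr (X f : M3) : M3 := mul (mul X f) (star X)

end M3

/-- The diagonal code of a bit. -/
def bit : Bool → Q4
  | false => .o
  | true => .i

/-- The code of a hermitian matrix, as six entries. -/
structure Herm where
  d0 : Bool
  d1 : Bool
  d2 : Bool
  x : Q4
  y : Q4
  w : Q4
  deriving DecidableEq

instance : Fintype Herm :=
  Fintype.ofEquiv (Bool × Bool × Bool × Q4 × Q4 × Q4)
    { toFun := fun p => ⟨p.1, p.2.1, p.2.2.1, p.2.2.2.1, p.2.2.2.2.1, p.2.2.2.2.2⟩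
      invFun := fun h => (h.d0, h.d1, h.d2, h.x, h.y, h.w)
      left_inv := fun _ => rfl
      right_inv := fun _ => rfl }

namespace Herm

/-- The matrix. -/
def toM (h : Herm) : M3 :=
  ⟨bit h.d0, h.x, h.y, h.x.conj, bit h.d1, h.w, h.y.conj, h.w.conj, bit h.d2⟩

/-- Sum. -/
def add (g h : Herm) : Herm :=
  ⟨xor g.d0 h.d0, xor g.d1 h.d1, xor g.d2 h.d2, g.x.add h.x, g.y.add h.y, g.w.add h.w⟩

/-- The zero code. -/
def zero : Herm := ⟨false, false, false, .o, .o, .o⟩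

/-- Entries read from digits. -/
def ofNat (n : ℕ) : Herm :=
  let q : ℕ → Q4 := fun k => match k with | 0 => .o | 1 => .i | 2 => .w | _ => .v
  ⟨n.testBit 0, n.testBit 1, n.testBit 2, q (n / 8 % 4), q (n / 32 % 4), q (n / 128 % 4)⟩

/-- Digits of entries. -/
def toNat (h : Herm) : ℕ :=
  let q : Q4 → ℕ := fun k => match k with | .o => 0 | .i => 1 | .w => 2 | .v => 3
  h.d0.toNat + 2 * h.d1.toNat + 4 * h.d2.toNat + 8 * q h.x + 32 * q h.y + 128 * q h.w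

/-- The rank. -/
def rank (h : Herm) : ℕ :=
  let M := h.toM
  let m (a b c d : Q4) : Q4 := (a.mul d).add (b.mul c)
  let det := ((M.a00.mul (m M.a11 M.a12 M.a21 M.a22)).add (M.a01.mul (m M.a10 M.a12 M.a20 M.a22))).add
    (M.a02.mul (m M.a10 M.a11 M.a20 M.a21))
  if h = zero then 0
  else if det ≠ .o then 3
  else if m M.a00 M.a01 M.a10 M.a11 = .o ∧ m M.a00 M.a02 M.a20 M.a22 = .o ∧ m M.a11 M.a12 M.a21 M.a22 = .o ∧
      m M.a00 M.a02 M.a10 M.a12 = .o ∧ m M.a01 M.a02 M.a11 M.a12 = .o ∧ m M.a10 M.a11 M.a20 M.a21 = .o then 1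
  else 2

end Herm

/-- An elementary matrix. -/
structure Elem where
  i : Fin 3
  j : Fin 3
  a : Q4
  deriving DecidableEq

/-- The twelve elementary matrices in use. -/
def gens : List Elem :=
  [⟨0, 1, .i⟩, ⟨0, 1, .w⟩, ⟨0, 2, .i⟩, ⟨0, 2, .w⟩, ⟨1, 0, .i⟩, ⟨1, 0, .w⟩, ⟨1, 2, .i⟩, ⟨1, 2, .w⟩, ⟨2, 0, .i⟩, ⟨2, 0, .w⟩, ⟨2, 1, .i⟩, ⟨2, 1, .w⟩]

/-- The matrix. -/
def Elem.toM (e : Elem) : M3 :=
  ⟨(if 0 = e.i ∧ 0 = e.j then e.a else .i), (if 0 = e.i ∧ 1 = e.j then e.a else .o), (if 0 = e.i ∧ 2 = e.j then e.a else .o), (if 1 = e.i ∧ 0 = e.j then e.a else .o), (if 1 = e.i ∧ 1 = e.j then e.a else .i), (if 1 = e.i ∧ 2 = e.j then e.a else .o), (if 2 = e.i ∧ 0 = e.j then e.a else .o), (if 2 = e.i ∧ 1 = e.j then e.a else .o), (if 2 = e.i ∧ 2 = e.j then e.a else .i)⟩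

/-- A representative of each rank. -/
def rep : ℕ → Herm
  | 1 => ⟨true, false, false, .o, .o, .o⟩
  | 2 => ⟨true, true, false, .o, .o, .o⟩
  | 3 => ⟨true, true, true, .o, .o, .o⟩
  | _ => Herm.zero

/-- Words leading from the representatives to the matrices. -/
def words : List (List ℕ) := [
[],
[],
[0,4],
[],
[2,8],
[6,10],
[2,8],
[],
[5,0],
[4],
[0],
[4],
[5,0],
[4],
[0],
[2,0,8],
[4,1],
[5,4],
[1],
[5,4],
[4,1],
[5,4],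
[1],
[2,1,8],
[0,5],
[5],
[1,0],
[5],
[0,5],
[5],
[1,0],
[6,5,10],
[6,10,5,0],
[6,10,4],
[9,2],
[8],
[6,10,0],
[8],
[2],
[8],
[10,5,0],
[10,4],
[0,8],
[6,8],
[2,4],
[10,4],
[0,8],
[2,0],
[11,4,1],
[11,5,4],
[1,8],
[1,9,2],
[11,4,1],
[2,4,1],
[1,8],
[2,1],
[6,11,4,1],
[11,10,5],
[7,9,2],
[7,8],
[2,5],
[2,0,5],
[1,0,8],
[2,1,0],
[6,10,4,1],
[6,10,5,4],
[8,3],
[9,8],
[6,10,1],
[9,8],
[3],
[9,8],
[11,10,5,0],
[11,10,4],
[7,8,3],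
[0,8,3],
[3,4],
[3,5,0],
[0,9,8],
[3,0],
[10,4,1],
[10,5,4],
[6,8,3],
[1,8,3],
[10,4,1],
[3,4,1],
[1,9,8],
[3,1],
[11,0,5],
[11,5],
[5,11,1,0],
[9,3,10,0],
[3,5],
[11,5],
[5,3,11],
[3,1,0],
[6,10,0,5],
[6,10,5],
[2,9],
[9],
[6,10,1,0],
[9],
[3,2],
[9],
[11,5,0],
[11,4],
[0,9],
[2,0,9],
[11,5,0],
[11,4],
[0,9],
[3,2,0],
[6,11,5,0],
[6,11,4],
[1,9],
[7,9],
[8,6,11,0],
[6,8,3,0],
[1,9],
[3,2,1],
[10,0,5],
[10,5],
[1,0,9],
[6,9],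
[10,0,5],
[10,5],
[1,0,9],
[3,2,1,0],
[2,8,5,0],
[11,6],
[2,8,0],
[10],
[2,8,4],
[6],
[10,0,4],
[10],
[8,5,0],
[4,10],
[8,0],
[2,10],
[6,0],
[4,10],
[8,0],
[6,4],
[9,8,4,1],
[3,11,6],
[9,8,1],
[3,10],
[6,1],
[5,4,10],
[6,4,1],
[6,5,4],
[9,0,5],
[5,10],
[9,1,0],
[5,11,6],
[6,1,0],
[5,10],
[9,1,0],
[6,5],
[9,6,0,8],
[8,6],
[10,2],
[10,8],
[6,0,8],
[0,6],
[4,2],
[10,8],
[0,8,5,0],
[8,4],
[10,0],
[2,10,8],
[6,2],
[8,4],
[10,0],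
[8,4],
[7,10,0],
[1,5,11,4],
[11,9,1],
[3,10,2],
[5,11,1],
[0,6,1],
[11,9,1],
[0,6,5],
[7,10,2],
[11,9,5],
[5,1,9,0],
[3,10,0],
[1,9,5],
[6,2,1],
[4,2,5],
[4,2,1],
[2,11,8,4],
[11,1,6],
[10,3],
[10,9,8],
[2,1,8,4],
[1,6],
[5,4,3],
[10,9,8],
[11,6,2],
[11,8,4],
[10,0,9],
[2,10,3],
[1,4,10],
[1,6,0],
[7,5,3],
[1,6,5],
[7,1,8,0],
[7,2,10,1],
[10,1],
[2,1,8,0],
[6,3],
[2,9,5],
[10,1],
[10,5,4],
[7,10,1],
[11,5,10],
[1,8,0],
[2,10,1],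
[0,9,5],
[6,3,0],
[1,8,0],
[3,8,0],
[3,5,11,4],
[9,6],
[10,3,2],
[10,9],
[3,5,11,1],
[1,0,6],
[5,3,2],
[10,9],
[11,6,0],
[11,4,10],
[8,0,9],
[10,3,0],
[1,8,4],
[1,6,2],
[8,0,9],
[8,3,0],
[11,6,3],
[5,11,4],
[10,1,8],
[10,2,1],
[6,0,9],
[0,6,3],
[3,4,2],
[1,4,2],
[2,5,11,4],
[9,5],
[10,1,0],
[6,10,9],
[6,3,2],
[9,5],
[10,1,0],
[9,5],
[2,8,0,5],
[10,7],
[2,8,1,0],
[11,10],
[2,8,5],
[7],
[2,8,5],
[11,10],
[9,8,5,0],
[3,10,7],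
[9,8,0],
[4,10,7],
[7,0],
[4,11,10],
[7,5,0],
[7,4],
[9,4,1],
[11,7,2,0],
[9,1],
[9,3,2,1],
[7,1],
[1,7,9],
[9,1],
[7,5,4],
[8,0,5],
[2,10,7],
[8,1,0],
[5,10,7],
[7,1,0],
[5,11,10],
[8,1,0],
[7,5],
[6,10,9,0],
[8,7],
[9,5,2],
[11,10,8],
[6,5,10,0],
[1,0,7],
[5,2],
[11,10,8],
[10,7,0],
[4,11,8],
[10,9,0],
[6,8,7],
[5,0,8],
[7,2,1],
[10,9,0],
[5,2,1],
[11,7,1],
[5,10,4],
[9,1,8],
[6,8,5],
[4,11,1],
[7,2,0],
[7,2,4],
[5,2,0],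
[4,1,9,0],
[8,5],
[11,10,1,0],
[6,5,10,4],
[7,2],
[8,5],
[6,11,1],
[8,5],
[6,10,8,1],
[10,0,7],
[8,4,3],
[0,9,8,0],
[6,4,10,1],
[0,7],
[4,3],
[6,5,3,0],
[10,5,11,0],
[9,8,4],
[11,10,0],
[2,10,8,1],
[7,3],
[9,8,4],
[11,10,0],
[9,8,4],
[10,7,1],
[4,11,5],
[10,8,1],
[10,2,11],
[5,10,1],
[0,7,1],
[10,8,1],
[9,2,1],
[10,7,2],
[10,8,5],
[0,9,1],
[8,6,9],
[1,8,5],
[7,3,1],
[0,9,1],
[4,3,1],
[2,11,8,5],
[9,7],
[7,11,10,1],
[1,9,1],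
[7,1,9],
[1,7],
[3,10,9,0],
[1,9,1],
[11,7,0],
[4,10,9],
[11,8,0],
[9,6,4],
[5,11,0],
[1,7,0],
[11,8,0],
[0,5,2],
[6,11,8,0],
[9,5,4],
[11,10,1],
[2,11,8,0],
[1,7,1],
[7,9],
[6,11,0],
[7,9],
[11,7,2],
[11,8,5],
[1,9,8,0],
[6,9,7],
[0,8,5],
[0,7,2],
[2,4,3],
[1,7,4],
[2,8,4,1],
[6,11],
[2,8,1],
[11],
[2,8,5,4],
[7,6],
[11,0,4],
[11],
[9,5,0],
[4,11],
[9,0],
[3,2,11],
[9,5,0],
[4,11],
[9,0],
[7,6,4],
[8,4,1],
[6,2,11],
[8,1],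
[2,11],
[8,4,1],
[5,4,11],
[8,1],
[10,9,2,1],
[2,9,5,0],
[5,11],
[2,9,0],
[3,11],
[7,6,1,0],
[5,11],
[6,8,1,0],
[3,5,3],
[7,1,9,0],
[8,7,6],
[11,2],
[11,8],
[7,1,9,5],
[1,7,6],
[5,4,2],
[11,8],
[5,10,0],
[6,11,8],
[9,0,8],
[11,3,0],
[5,10,0],
[10,4,11],
[6,5,2],
[9,3,0],
[6,1,9,0],
[8,5,4],
[11,1],
[2,11,8],
[7,6,2],
[8,5,4],
[11,1],
[8,5,4],
[6,11,1],
[5,10,8],
[1,9,0],
[3,11,2],
[2,4,11],
[7,0,6],
[1,9,0],
[2,9,0],
[6,10,9,1],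
[7,11,2,0],
[11,3],
[5,11,5],
[3,5,11],
[5,3,1,0],
[5,3],
[5,11,5],
[8,7,3],
[10,9,4],
[11,0,8],
[11,2,0],
[1,9,4],
[10,9,4],
[5,3,4],
[9,2,0],
[4,10,1],
[3,10,9,4],
[10,9,1],
[2,11,3],
[4,10,1],
[6,0,7],
[10,9,1],
[5,3,0],
[4,1,8,0],
[9,8,5],
[11,1,0],
[6,10,9,4],
[7,6,3],
[2,9,4],
[3,11],
[11,5],
[6,0,8,1],
[9,7,6],
[11,3,2],
[11,9],
[2,4,10,1],
[0,7,6],
[4,3,2],
[11,9],
[0,9,5,0],
[9,4],
[11,0],
[2,0,8,1],
[0,9,5,0],
[9,4],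
[11,0],
[9,4],
[6,11,0],
[4,10,5],
[8,1,9],
[3,11,0],
[4,1,9],
[4,10,5],
[2,5,3],
[8,3,1],
[7,11,0],
[6,11,9],
[0,8,1],
[2,11,0],
[0,5,11],
[6,1,7],
[0,8,1],
[10,7,5]]

/-- The value of a word. -/
def wordVal : List ℕ → M3 → M3
  | [], f => f
  | g :: l, f => M3.congr (gens.getD g ⟨0, 1, .i⟩).toM (wordVal l f)

theorem words_length : words.length = 512 := by decide +kernel

theorem words_ok : ((List.range 512).zip words).all (fun p =>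
    decide (wordVal p.2 (rep (Herm.ofNat p.1).rank).toM = (Herm.ofNat p.1).toM) && p.2.all (fun g => decide (g < 12))) = true := by
  decide +kernel

theorem ofNat_toNat : ∀ h : Herm, Herm.ofNat h.toNat = h ∧ h.toNat < 512 := by decide +kernel

/-- Every matrix comes from the representative of its rank. -/
theorem exists_word (h : Herm) : ∃ l : List ℕ, (∀ g ∈ l, g < 12) ∧ wordVal l (rep h.rank).toM = h.toM := by
  obtain ⟨he, hn⟩ := ofNat_toNat h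
  have hi : h.toNat < ((List.range 512).zip words).length := by
    rw [List.length_zip, List.length_range, words_length]; exact hn
  have h1 := List.all_eq_true.1 words_ok _ (List.getElem_mem hi)
  simp only [Bool.and_eq_true, decide_eq_true_eq, List.all_eq_true, List.getElem_zip, List.getElem_range, he] at h1
  exact ⟨_, h1.2, h1.1⟩

/-- All codes. -/
def allHerm : List Herm := (List.range 512).map Herm.ofNat

theorem class_sizes : (allHerm.filter fun h => h.rank == 1).length = 21 ∧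
    (allHerm.filter fun h => h.rank == 2).length = 210 ∧ (allHerm.filter fun h => h.rank == 3).length = 280 ∧
    allHerm.all (fun h => decide (h = Herm.zero) || (h.rank == 1 || h.rank == 2 || h.rank == 3)) = true := by
  decide +kernel

theorem three_sum : ∃ f g : Herm, f.rank = 3 ∧ g.rank = 3 ∧ (f.add g).rank = 1 :=
  ⟨Herm.ofNat 7, Herm.ofNat 12, by decide +kernel⟩

theorem one_two_sum : ∃ f g : Herm, f.rank = 1 ∧ g.rank = 2 ∧ (f.add g).rank = 3 :=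
  ⟨Herm.ofNat 1, Herm.ofNat 6, by decide +kernel⟩

/-- An upper unitriangular matrix. -/
def upper (a b c : Q4) : M3 := ⟨.i, a, b, .o, .i, c, .o, .o, .i⟩

/-- The matrices fixed by an element. -/
def fixedBy (X : M3) : List Herm := allHerm.filter fun h => decide (M3.congr X h.toM = h.toM)

theorem fixed_one : ∀ a b c : Q4, (a = .o ∨ c = .o) → ¬ (a = .o ∧ b = .o ∧ c = .o) →
    (fixedBy (upper a b c)).length ≤ 32 := by decide +kernel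

theorem fixed_row : (allHerm.filter fun h => decide (M3.congr (upper .i .o .o) h.toM = h.toM ∧
    M3.congr (upper .w .o .o) h.toM = h.toM ∧ M3.congr (upper .o .i .o) h.toM = h.toM ∧
    M3.congr (upper .o .w .o) h.toM = h.toM)).length ≤ 16 := by decide +kernel

theorem fixed_col : (allHerm.filter fun h => decide (M3.congr (upper .o .i .o) h.toM = h.toM ∧
    M3.congr (upper .o .w .o) h.toM = h.toM ∧ M3.congr (upper .o .o .i) h.toM = h.toM ∧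
    M3.congr (upper .o .o .w) h.toM = h.toM)).length ≤ 16 := by decide +kernel

theorem moved : M3.congr (upper .i .o .o) (rep 2).toM ≠ (rep 2).toM := by decide +kernel

end Cfsg.Lib.USixFusion
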