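import Cfsg.Agent.USixFusion.Frame

/-!
Reading the codes in the field, and the elements of a frame given by them.
-/

set_option autoImplicit false
set_option linter.unusedSectionVars false
set_option linter.style.haveILetI false

namespace Cfsg.Lib.USixFusion

open Cfsg.Lib.Classical Cfsg.Lib.ThreeTr Matrix

universe u v

variable {F : Type u} [Field F] {V : Type v} [AddCommGroup V] [Module F V] {H : HermSpace F V}

/-- A primitive element. -/
structure Prim (H : HermSpace F V) (ω : F) : Prop where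
  sq : ω * ω = ω + 1
  conj : H.σ ω = ω + 1

/-- Reading a code. -/
def val (ω : F) : Q4 → F
  | .o => 0
  | .i => 1
  | .w => ω
  | .v => ω + 1

theorem exists_prim (hS : IsSixSpace H) : ∃ ω : F, Prim H ω := by
  obtain ⟨θ, hθ⟩ := H.conj.exists_trace_one
  have hθ0 : θ ≠ 0 := fun e => by rw [e, map_zero, zero_add] at hθ; exact zero_ne_one hθ
  refine ⟨θ, ?_, ?_⟩
  · have := hS.norm θ hθ0
    linear_combination (-θ) * hθ + this + (θ * θ - θ) * hS.two
  · linear_combination hθ - θ * hS.two

/-- The matrix of a code. -/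
def mat (ω : F) (X : M3) : Matrix (Fin 3) (Fin 3) F :=
  !![val ω X.a00, val ω X.a01, val ω X.a02;
     val ω X.a10, val ω X.a11, val ω X.a12;
     val ω X.a20, val ω X.a21, val ω X.a22]

variable {ω : F}

namespace Prim

variable (hS : IsSixSpace H) (hω : Prim H ω)
include hS hω

theorem ne_zero : ω ≠ 0 := fun e => by have := hω.sq; rw [e] at this; simp at this

theorem val_add (a b : Q4) : val ω (Q4.add a b) = val ω a + val ω b := by
  cases a <;> cases b <;> simp only [Q4.add, val] <;> grind [hS.two]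

theorem val_mul (a b : Q4) : val ω (Q4.mul a b) = val ω a * val ω b := by
  cases a <;> cases b <;> simp only [Q4.mul, val] <;> grind [hS.two, hω.sq]

theorem val_conj (a : Q4) : val ω a.conj = H.σ (val ω a) := by
  cases a <;> simp only [Q4.conj, val, map_zero, map_one, map_add, hω.conj] <;> grind [hS.two]

theorem val_inj {a b : Q4} (h : val ω a = val ω b) : a = b := by
  have h1 : ω + 1 ≠ 0 := fun e => by
    have := hω.sq
    rw [e] at this
    exact ne_zero hS hω (mul_self_eq_zero.1 this)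
  have h0 := ne_zero hS hω
  cases a <;> cases b <;> simp only [val] at h <;> grind [hS.two]

theorem val_surj (x : F) : ∃ a, val ω a = x := by
  by_cases hx : x = 0
  · exact ⟨.o, hx.symm⟩
  rcases hS.toFour.fixed_cases (H.conj.trace_mem x) with h | h
  · rcases hS.toFour.fixed_cases (hS.toFour.eq_of_add (show H.σ x + x = 0 by rw [add_comm]; exact h)) with h' | h'
    · exact absurd h' hx
    · exact ⟨.i, h'.symm⟩
  · have h2 := hS.norm x hx
    have h3 : (x + ω) * (x + ω + 1) = 0 := by linear_combination (x) * h + hω.sq - h2 + (x * ω + x + ω) * hS.two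
    rcases mul_eq_zero.1 h3 with e | e
    · exact ⟨.w, (hS.toFour.eq_of_add e).symm⟩
    · exact ⟨.v, (hS.toFour.eq_of_add (show x + (ω + 1) = 0 by rw [← add_assoc]; exact e)).symm⟩

theorem mat_mul (X Y : M3) : mat ω (M3.mul X Y) = mat ω X * mat ω Y := by
  ext i j
  fin_cases i <;> fin_cases j <;>
    simp [mat, M3.mul, Matrix.mul_apply, Fin.sum_univ_three, val_add hS hω, val_mul hS hω]

theorem mat_add (X Y : M3) : mat ω (M3.add X Y) = mat ω X + mat ω Y := by
  ext i j
  fin_cases i <;> fin_cases j <;> simp [mat, M3.add, val_add hS hω]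

theorem mat_star (X : M3) : mat ω (M3.star X) = ((mat ω X).map H.σ)ᵀ := by
  ext i j
  fin_cases i <;> fin_cases j <;> simp [mat, M3.star, val_conj hS hω]

theorem mat_congr (X f : M3) : mat ω (M3.congr X f) = mat ω X * mat ω f * ((mat ω X).map H.σ)ᵀ := by
  rw [M3.congr, mat_mul hS hω, mat_mul hS hω, mat_star hS hω]

theorem mat_inj {X Y : M3} (h : mat ω X = mat ω Y) : X = Y := by
  have e : ∀ i j, mat ω X i j = mat ω Y i j := fun i j => by rw [h]
  obtain ⟨x1, x2, x3, x4, x5, x6, x7, x8, x9⟩ := X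
  obtain ⟨y1, y2, y3, y4, y5, y6, y7, y8, y9⟩ := Y
  rw [M3.mk.injEq]
  exact ⟨val_inj hS hω (e 0 0), val_inj hS hω (e 0 1), val_inj hS hω (e 0 2), val_inj hS hω (e 1 0),
    val_inj hS hω (e 1 1), val_inj hS hω (e 1 2), val_inj hS hω (e 2 0), val_inj hS hω (e 2 1), val_inj hS hω (e 2 2)⟩

theorem toM_inj {g h : Herm} (e : g.toM = h.toM) : g = h := by
  obtain ⟨a, b, c, x, y, w⟩ := g
  obtain ⟨a', b', c', x', y', w'⟩ := h
  simp only [Herm.toM, M3.mk.injEq] at e
  have hb : ∀ s t : Bool, bit s = bit t → s = t := by decide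
  obtain ⟨e1, e2, e3, -, e5, e6, -, -, e9⟩ := e
  rw [hb _ _ e1, e2, e3, hb _ _ e5, e6, hb _ _ e9]

theorem herm_isHerm (h : Herm) : Frame.IsHerm H (mat ω h.toM) := by
  have hb : ∀ s : Bool, H.σ (val ω (bit s)) = val ω (bit s) := fun s => by cases s <;> simp [bit, val]
  intro i j
  fin_cases i <;> fin_cases j <;>
    simp [mat, Herm.toM, hb, val_conj hS hω, H.conj.invol]

theorem herm_inj {g h : Herm} (e : mat ω g.toM = mat ω h.toM) : g = h := toM_inj hS hω (mat_inj hS hω e)

theorem toM_add (g h : Herm) : (g.add h).toM = g.toM.add h.toM := by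
  have hb : ∀ s t, bit (xor s t) = Q4.add (bit s) (bit t) := by decide
  have hc : ∀ s t : Q4, (s.add t).conj = s.conj.add t.conj := by decide
  simp only [Herm.add, Herm.toM, M3.add, hb, hc]

theorem herm_add (g h : Herm) : mat ω (g.add h).toM = mat ω g.toM + mat ω h.toM := by
  rw [toM_add hS hω, mat_add hS hω]

theorem herm_zero : mat ω Herm.zero.toM = 0 := by
  ext i j
  fin_cases i <;> fin_cases j <;> simp [mat, Herm.zero, Herm.toM, bit, Q4.conj, val]

theorem herm_surj {M : Matrix (Fin 3) (Fin 3) F} (hM : Frame.IsHerm H M) : ∃ h : Herm, mat ω h.toM = M := by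
  have hd : ∀ i, ∃ s, val ω (bit s) = M i i := fun i => by
    rcases hS.toFour.fixed_cases (hM i i).symm with e | e
    · exact ⟨false, e.symm⟩
    · exact ⟨true, e.symm⟩
  obtain ⟨a, ha⟩ := hd 0
  obtain ⟨b, hb⟩ := hd 1
  obtain ⟨c, hc⟩ := hd 2
  obtain ⟨x, hx⟩ := val_surj hS hω (M 0 1)
  obtain ⟨y, hy⟩ := val_surj hS hω (M 0 2)
  obtain ⟨w, hw⟩ := val_surj hS hω (M 1 2)
  refine ⟨⟨a, b, c, x, y, w⟩, ?_⟩
  ext i j
  fin_cases i <;> fin_cases j <;>
    simp [mat, Herm.toM, val_conj hS hω, ha, hb, hc, hx, hy, hw, hM 0 1, hM 0 2, hM 1 2]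

end Prim

/-- The fixed data: a primitive element with a frame. -/
structure Coord (H : HermSpace F V) where
  six : IsSixSpace H
  frame : Frame H
  w : F
  prim : Prim H w

namespace Coord

variable (K : Coord H)

/-- The element of a code. -/
noncomputable def el (h : Herm) : H.SIsom := K.frame.el K.six (mat K.w h.toM)

theorem el_acts (h : Herm) : K.frame.Acts (K.el h) (mat K.w h.toM) :=
  K.frame.el_acts K.six (K.prim.herm_isHerm K.six h)

theorem el_fixes (h : Herm) (i : Fin 3) : (K.el h).1.1 (K.frame.e i) = K.frame.e i :=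
  K.frame.acts_fixes (K.el_acts h) i

theorem el_mul (g h : Herm) : K.el g * K.el h = K.el (g.add h) := by
  rw [el, el, el, K.prim.herm_add K.six,
    K.frame.el_add K.six (K.prim.herm_isHerm K.six g) (K.prim.herm_isHerm K.six h)]

theorem el_zero : K.el Herm.zero = 1 := by rw [el, K.prim.herm_zero K.six, K.frame.el_zero K.six]

theorem el_sq (h : Herm) : K.el h * K.el h = 1 := K.frame.el_sq K.six (K.prim.herm_isHerm K.six h)

theorem el_inj {g h : Herm} (e : K.el g = K.el h) : g = h :=
  K.prim.herm_inj K.six (K.frame.el_inj K.six (K.prim.herm_isHerm K.six g) (K.prim.herm_isHerm K.six h) e)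

theorem exists_el {g : H.SIsom} (hg : ∀ i, g.1.1 (K.frame.e i) = K.frame.e i) : ∃ h, g = K.el h := by
  obtain ⟨M, hM, rfl⟩ := K.frame.exists_el K.six hg
  obtain ⟨h, rfl⟩ := K.prim.herm_surj K.six hM
  exact ⟨h, rfl⟩

/-- Conjugation by an element with given matrix. -/
theorem el_conj {g : H.SIsom} (hg : K.frame.Stab g) {X : M3} (hX : K.frame.rho g = mat K.w X) {f h : Herm}
    (e : M3.congr X f.toM = h.toM) : g * K.el f * g⁻¹ = K.el h := by
  rw [el, el, K.frame.el_conj K.six hg (K.prim.herm_isHerm K.six f), ← e, K.prim.mat_congr K.six, hX]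

theorem el_conj_iff {g : H.SIsom} (hg : K.frame.Stab g) {X : M3} (hX : K.frame.rho g = mat K.w X) (f : Herm) :
    g * K.el f * g⁻¹ = K.el f ↔ M3.congr X f.toM = f.toM := by
  refine ⟨fun h => ?_, K.el_conj hg hX⟩
  rw [el, K.frame.el_conj K.six hg (K.prim.herm_isHerm K.six f)] at h
  have := K.frame.el_inj K.six (Frame.congr_herm (K.prim.herm_isHerm K.six f) _) (K.prim.herm_isHerm K.six f) h
  rw [hX, ← K.prim.mat_congr K.six] at this
  exact K.prim.mat_inj K.six this

end Coord

end Cfsg.Lib.USixFusion
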