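import Cfsg.Agent.USixFusion.Split

/-!
The members of an invariant set in the elementary abelian group are counted class by class of hermitian matrices.
-/

set_option autoImplicit false
set_option linter.unusedSectionVars false
set_option linter.style.haveILetI false

namespace Cfsg.Lib.USixFusion

open Cfsg.Lib.Classical Cfsg.Lib.ThreeTr Subgroup

universe u v w w'

attribute [local instance] _root_.Classical.propDecidable

/-- The code of the form giving an elementary matrix in the frame exchanged at its column. -/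
def offForm : Fin 3 → Fin 3 → Q4 → Herm
  | 0, 1, a => ⟨false, false, false, a, .o, .o⟩
  | 1, 0, a => ⟨false, false, false, a.conj, .o, .o⟩
  | 0, 2, a => ⟨false, false, false, .o, a, .o⟩
  | 2, 0, a => ⟨false, false, false, .o, a.conj, .o⟩
  | 1, 2, a => ⟨false, false, false, .o, .o, a⟩
  | 2, 1, a => ⟨false, false, false, .o, .o, a.conj⟩
  | _, _, _ => Herm.zero

theorem conj_conj_code : ∀ a : Q4, a.conj.conj = a := by decide

theorem rank_sizes : (Finset.univ.filter fun h : Herm => h.rank = 1).card = 21 ∧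
    (Finset.univ.filter fun h : Herm => h.rank = 2).card = 210 ∧
    (Finset.univ.filter fun h : Herm => h.rank = 3).card = 280 ∧
    (Finset.univ.filter fun h : Herm => h.rank = 0) = {Herm.zero} ∧ (∀ h : Herm, h.rank ≤ 3) := by
  decide +kernel

theorem rep_rank : (rep 1).rank = 1 ∧ (rep 2).rank = 2 ∧ (rep 3).rank = 3 := by decide +kernel

theorem gens_ok : ∀ g < 12, (gens.getD g ⟨0, 1, .i⟩).i ≠ (gens.getD g ⟨0, 1, .i⟩).j := by decide +kernel

theorem code_toNat_inj {g h : Herm} (e : g.toM = h.toM) : g = h := by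
  have hb : ∀ s t : Bool, bit s = bit t → s = t := by decide
  obtain ⟨a, b, c, x, y, w⟩ := g
  obtain ⟨a', b', c', x', y', w'⟩ := h
  simp only [Herm.toM, M3.mk.injEq] at e
  obtain ⟨e1, e2, e3, -, e5, e6, -, -, e9⟩ := e
  rw [hb _ _ e1, e2, e3, hb _ _ e5, e6, hb _ _ e9]

variable {F : Type u} [Field F] [Finite F] {V : Type v} [AddCommGroup V] [Module F V] {C : Type w} [Group C] [Finite C]
  {Q : Type w'} [Group Q]

namespace Setup

variable (U : Setup F V C Q) (K : Coord U.H)

theorem val_o' (ω : F) : val ω .o = 0 := rfl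

theorem val_i' (ω : F) : val ω .i = 1 := rfl

/-- An element inducing an elementary matrix, of order at most two. -/
theorem exists_elementary (e : Elem) (hij : e.i ≠ e.j) :
    ∃ g : U.H.SIsom, g * g = 1 ∧ K.frame.Stab g ∧ K.frame.rho g = mat K.w e.toM := by
  obtain ⟨i, j, a⟩ := e
  simp only at hij
  let K' : Coord U.H := ⟨U.six, K.frame.flip (fun k => decide (k = j)), K.w, K.prim⟩
  refine ⟨K'.el (offForm i j a), K'.el_sq _, ?_⟩
  have hall : ∀ k, (K'.el (offForm i j a)).1.1 (K.frame.e k) =
      K.frame.e k + (if k = j then val K.w a else 0) • K.frame.e i := by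
    intro k
    rw [K'.el_acts (offForm i j a) (K.frame.e k)]
    congr 1
    fin_cases i <;> fin_cases j <;>
      first
        | exact absurd rfl hij
        | (fin_cases k <;>
            simp [K', Fin.sum_univ_three, Frame.flip, offForm, Herm.toM, mat, bit, val_o', val_i',
              conj_conj_code, show Q4.o.conj = Q4.o from rfl, K.frame.ee, K.frame.ef])
  refine ⟨fun k => ?_, ?_⟩
  · rw [hall]
    exact add_mem (K.frame.e_mem k) (Submodule.smul_mem _ _ (K.frame.e_mem i))
  · ext r k
    show U.H.h ((K'.el (offForm i j a)).1.1 (K.frame.e k)) (K.frame.f r) = _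
    rw [hall, U.H.add_left, U.H.smul_left, K.frame.ef, K.frame.ef]
    fin_cases i <;> fin_cases j <;>
      first
        | exact absurd rfl hij
        | (fin_cases r <;> fin_cases k <;> simp [mat, Elem.toM, val_o', val_i'])

/-- A chosen member over a code. -/
noncomputable def sec (h : Herm) : C := (U.double.surj (U.φ (K.el h))).choose

theorem π_sec (h : Herm) : U.π (U.sec K h) = U.φ (K.el h) := (U.double.surj (U.φ (K.el h))).choose_spec

theorem sec_mem (h : Herm) : U.sec K h ∈ U.grp K := (U.mem_grp K).2 ⟨h, (U.π_sec K h).symm⟩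

theorem sec_cases {x : C} (hx : x ∈ U.grp K) : ∃ h, x = U.sec K h ∨ x = U.z * U.sec K h := by
  obtain ⟨h, e⟩ := (U.mem_grp K).1 hx
  exact ⟨h, Cfsg.Lib.DoubleCover.lift_cases U.double (by rw [U.π_sec, e])⟩

/-- The number of members of the set over a code. -/
noncomputable def fib (O : Set C) (h : Herm) : ℕ :=
  (if U.sec K h ∈ O then 1 else 0) + (if U.z * U.sec K h ∈ O then 1 else 0)

theorem fib_le (O : Set C) (h : Herm) : U.fib K O h ≤ 2 := by
  simp only [fib]; split_ifs <;> omega

theorem fib_zero {O : Set C} {h : Herm} (h0 : U.fib K O h = 0) {x : C} (hx : U.π x = U.φ (K.el h)) : x ∉ O := by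
  simp only [fib] at h0
  rcases Cfsg.Lib.DoubleCover.lift_cases U.double (hx.trans (U.π_sec K h).symm) with rfl | rfl <;>
    intro hm <;> simp [hm] at h0

theorem fib_two {O : Set C} {h : Herm} (h2 : U.fib K O h = 2) {x : C} (hx : U.π x = U.φ (K.el h)) : x ∈ O := by
  simp only [fib] at h2
  rcases Cfsg.Lib.DoubleCover.lift_cases U.double (hx.trans (U.π_sec K h).symm) with rfl | rfl <;>
    by_contra hm <;> simp [hm] at h2 <;> split_ifs at h2 <;> omega

theorem z_z_mul (x : C) : U.z * (U.z * x) = x := by rw [← mul_assoc, U.double.sq, one_mul]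

theorem fib_one {O : Set C} {h : Herm} (h1 : U.fib K O h = 1) {x : C} (hx : U.π x = U.φ (K.el h)) :
    x ∈ O ↔ U.z * x ∉ O := by
  simp only [fib] at h1
  rcases Cfsg.Lib.DoubleCover.lift_cases U.double (hx.trans (U.π_sec K h).symm) with rfl | rfl
  · split_ifs at h1 with a b b <;> simp_all
  · rw [U.z_z_mul]
    split_ifs at h1 with a b b <;> simp_all

variable {O : Set C} (hO : ∀ x ∈ O, ∀ c : C, (∀ y ∈ U.grp K, c * y * c⁻¹ ∈ U.grp K) → c * x * c⁻¹ ∈ O)
include hO

theorem fib_conj {g : U.H.SIsom} (hg : K.frame.Stab g) (hg' : K.frame.Stab g⁻¹) {f h : Herm}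
    (e : g * K.el f * g⁻¹ = K.el h) : U.fib K O f = U.fib K O h := by
  classical
  obtain ⟨c, hc⟩ := U.double.surj (U.φ g)
  have hc' : U.π c⁻¹ = U.φ g⁻¹ := by rw [map_inv, map_inv, hc]
  have hiff : ∀ x ∈ U.grp K, x ∈ O ↔ c * x * c⁻¹ ∈ O := fun x _ =>
    ⟨fun hx => hO x hx c fun y hy => U.conj_grp K hg hc hy, fun hx => by
      have := hO _ hx c⁻¹ fun y hy => U.conj_grp K hg' hc' hy
      rwa [show c⁻¹ * (c * x * c⁻¹) * c⁻¹⁻¹ = x by group] at this⟩
  have hmove : U.π (c * U.sec K f * c⁻¹) = U.π (U.sec K h) := by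
    rw [map_mul, map_mul, map_inv, hc, U.π_sec, U.π_sec, ← e, map_mul, map_mul, map_inv]
  have hzc : c * (U.z * U.sec K f) * c⁻¹ = U.z * (c * U.sec K f * c⁻¹) := by
    rw [← mul_assoc c, ← (U.double.central c).eq]; simp only [mul_assoc]
  simp only [fib]
  rw [eq_iff_iff.2 (hiff _ (U.sec_mem K f)), eq_iff_iff.2 (hiff _ (mul_mem (U.z_mem K) (U.sec_mem K f))), hzc]
  rcases Cfsg.Lib.DoubleCover.lift_cases U.double hmove with k | k <;> rw [k]
  rw [U.z_z_mul, add_comm]

theorem fib_word : ∀ (l : List ℕ) (f h : Herm), (∀ g ∈ l, g < 12) → wordVal l f.toM = h.toM →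
    U.fib K O f = U.fib K O h := by
  intro l
  induction l with
  | nil =>
    intro f h _ e
    rw [code_toNat_inj (g := f) (h := h) e]
  | cons k l ih =>
    intro f h hl e
    obtain ⟨g, hgg, hst, hrho⟩ := U.exists_elementary K _ (gens_ok k (hl k (by simp)))
    have hinv : g⁻¹ = g := inv_eq_of_mul_eq_one_right hgg
    have hherm : Frame.IsHerm U.H (mat K.w (wordVal l f.toM)) := by
      clear e ih
      induction l with
      | nil => exact K.prim.herm_isHerm U.six f
      | cons k' l' ih' =>
        show Frame.IsHerm U.H (mat K.w (M3.congr _ (wordVal l' f.toM)))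
        rw [K.prim.mat_congr U.six]
        exact Frame.congr_herm (ih' fun x hx => hl x (by
          simp only [List.mem_cons] at hx ⊢
          tauto)) _
    obtain ⟨m, hm⟩ := K.prim.herm_surj U.six hherm
    have hm' := K.prim.mat_inj U.six hm
    rw [ih f m (fun x hx => hl x (by simp [hx])) hm'.symm]
    refine U.fib_conj K hO hst (hinv.symm ▸ hst) (K.el_conj hst hrho ?_)
    rw [hm']
    exact e

theorem fib_rank (h : Herm) : U.fib K O h = U.fib K O (rep h.rank) := by
  obtain ⟨l, hl, e⟩ := exists_word h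
  exact (U.fib_word K hO l _ _ hl e).symm

/-- The count. -/
theorem ncard_set (hsub : ∀ x ∈ O, x ∈ U.grp K) (h1 : (1 : C) ∉ O) (hzO : U.z ∈ O) :
    O.ncard = 1 + 21 * U.fib K O (rep 1) + 210 * U.fib K O (rep 2) + 280 * U.fib K O (rep 3) := by
  classical
  obtain ⟨r1, r2, r3, r0, hle⟩ := rank_sizes
  have h0 : U.fib K O Herm.zero = 1 := by
    rcases U.double.ker (U.sec K Herm.zero) (by rw [U.π_sec, K.el_zero, map_one]) with e | e <;>
      simp [fib, e, h1, hzO, U.double.sq]
  have hsum : O.ncard = ∑ h : Herm, U.fib K O h := by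
    set S := Finset.univ.biUnion fun h : Herm => ({U.sec K h, U.z * U.sec K h} : Finset C).filter (· ∈ O)
    have hS : (S : Set C) = O := by
      ext x
      simp only [S, Finset.coe_biUnion, Finset.coe_univ, Set.mem_iUnion, Finset.mem_coe, Finset.mem_filter,
        Finset.mem_insert, Finset.mem_singleton, Set.mem_univ, exists_prop, true_and]
      exact ⟨fun ⟨_, _, hx⟩ => hx, fun hx => by
        obtain ⟨h, e⟩ := U.sec_cases K (hsub x hx)
        exact ⟨h, e, hx⟩⟩
    rw [← hS, Set.ncard_coe_finset, Finset.card_biUnion]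
    · refine Finset.sum_congr rfl fun h _ => ?_
      rw [hS]
      have hne : U.sec K h ≠ U.z * U.sec K h := fun e => U.z_ne (by
        have := e.symm
        exact mul_eq_right.1 this)
      rw [Finset.filter_insert, Finset.filter_singleton]
      simp only [fib]
      split_ifs <;> simp [hne]
    · intro h _ k _ hk
      rw [Function.onFun, Finset.disjoint_left]
      intro x hx hy
      simp only [Finset.mem_filter, Finset.mem_insert, Finset.mem_singleton] at hx hy
      have hπ : ∀ f, (x = U.sec K f ∨ x = U.z * U.sec K f) → U.π x = U.φ (K.el f) := fun f hf => by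
        rcases hf with e | e <;> rw [e]
        · exact U.π_sec K f
        · rw [map_mul, U.z_ker, one_mul, U.π_sec]
      exact hk (U.bar_inj K ((hπ h hx.1).symm.trans (hπ k hy.1)))
  rw [hsum, ← Finset.sum_fiberwise_of_maps_to (g := Herm.rank) (t := Finset.range 4)
    (fun h _ => Finset.mem_range.2 (by have := hle h; omega))]
  simp only [Finset.sum_range_succ, Finset.sum_range_zero, zero_add]
  have hc : ∀ k, ∑ h ∈ Finset.univ.filter (fun h : Herm => h.rank = k), U.fib K O h =
      (Finset.univ.filter fun h : Herm => h.rank = k).card * U.fib K O (rep k) := fun k => by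
    rw [Finset.sum_congr rfl fun h hh => (show U.fib K O h = U.fib K O (rep k) by
      rw [U.fib_rank K hO h, (Finset.mem_filter.1 hh).2]), Finset.sum_const, smul_eq_mul]
  rw [hc 1, hc 2, hc 3, r1, r2, r3, r0, Finset.sum_singleton, h0]

end Setup

end Cfsg.Lib.USixFusion
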