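import Cfsg.Agent.USixFusion.Flag
import Cfsg.Prelude.Def_Transfer

/-!
Elementary abelian 2-subgroups of a double cover of the projective special unitary group of dimension six over the
field with four elements: those of largest order have order `2 ^ 10`, and a Sylow 2-subgroup contains only one.
-/

set_option autoImplicit false
set_option linter.unusedSectionVars false
set_option linter.style.haveILetI false

namespace Cfsg.Lib.USixFusion

open Cfsg.Lib.Classical Cfsg.Lib.ThreeTr Cfsg.Lib.DoubleCover Subgroup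

universe u v w w'

/-- A double cover of the quotient of the special unitary group by central elements. -/
structure Setup (F : Type u) [Field F] (V : Type v) [AddCommGroup V] [Module F V] (C : Type w) [Group C]
    (Q : Type w') [Group Q] where
  H : HermSpace F V
  six : IsSixSpace H
  φ : H.SIsom →* Q
  φsurj : Function.Surjective φ
  φker : φ.ker ≤ center H.SIsom
  π : C →* Q
  z : C
  double : IsDouble π z
  z_ne : z ≠ 1
  z_ker : π z = 1

variable {F : Type u} [Field F] [Finite F] {V : Type v} [AddCommGroup V] [Module F V] {C : Type w} [Group C] [Finite C]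
  {Q : Type w'} [Group Q]

namespace Setup

variable (U : Setup F V C Q)

theorem ker_scalar {g : U.H.SIsom} (hg : U.φ g = 1) : ∃ l : F, l ≠ 0 ∧ ∀ x, g.1.1 x = l • x :=
  U.six.center_scalar (U.φker hg)

theorem ker_cube {g : U.H.SIsom} (hg : U.φ g = 1) : g ^ 3 = 1 := by
  obtain ⟨l, hl, hx⟩ := U.ker_scalar hg
  obtain ⟨ω, hω⟩ := exists_prim U.six
  obtain ⟨a, rfl⟩ := hω.val_surj U.six l
  have key : ∀ b : Q4, b ≠ .o → Q4.mul b (Q4.mul b b) = .i := by decide
  have ha : a ≠ .o := fun e => hl (by rw [e]; rfl)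
  refine U.H.sisom_ext fun x => ?_
  rw [show (g ^ 3) = g * (g * g) by simp [pow_succ, mul_assoc], U.H.smul_mul_apply, U.H.smul_mul_apply, hx, hx, hx,
    smul_smul, smul_smul, mul_assoc, ← hω.val_mul U.six, ← hω.val_mul U.six, key a ha]
  show (1 : F) • x = x
  rw [one_smul]

/-- Two elements with one image agreeing at a vector are equal. -/
theorem φ_inj {g k : U.H.SIsom} (e : U.φ g = U.φ k) {x : V} (hx : x ≠ 0) (h : g.1.1 x = k.1.1 x) : g = k := by
  obtain ⟨l, -, hl⟩ := U.ker_scalar (g := k⁻¹ * g) (by rw [map_mul, map_inv, e, inv_mul_cancel])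
  have h1 := hl x
  rw [U.H.smul_mul_apply, h, show ((k⁻¹ : U.H.SIsom)).1.1 (k.1.1 x) = x from U.H.inv_apply_self k.1 x] at h1
  have hl1 : l = 1 := by
    have : (l - 1) • x = 0 := by rw [sub_smul, one_smul, ← h1, sub_self]
    exact sub_eq_zero.1 ((smul_eq_zero.1 this).resolve_right hx)
  exact (inv_mul_eq_one.1 (U.H.sisom_ext (g := k⁻¹ * g) (h := 1) fun y => by rw [hl, hl1, one_smul]; rfl)).symm

theorem lift_sq {x : C} (hx : U.π x * U.π x = 1) : x * x = 1 :=
  involution_lift U.six U.double U.φ U.φsurj U.φker hx rfl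

variable (K : Coord U.H)

theorem e_ne (i : Fin 3) : K.frame.e i ≠ 0 := fun e => by
  have := K.frame.ef i i
  rw [if_pos rfl, e, U.H.zero_left] at this
  exact zero_ne_one this

/-- The image of the elements fixing the space pointwise. -/
noncomputable def bar : Subgroup Q where
  carrier := Set.range fun h : Herm => U.φ (K.el h)
  mul_mem' := by
    rintro _ _ ⟨g, rfl⟩ ⟨h, rfl⟩
    exact ⟨g.add h, by simp [← map_mul, K.el_mul]⟩
  one_mem' := ⟨Herm.zero, by simp [K.el_zero]⟩
  inv_mem' := by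
    rintro _ ⟨h, rfl⟩
    exact ⟨h, eq_inv_of_mul_eq_one_left (by simp [← map_mul, K.el_sq])⟩

theorem mem_bar {q : Q} : q ∈ U.bar K ↔ ∃ h, U.φ (K.el h) = q := Iff.rfl

theorem bar_inj {g h : Herm} (e : U.φ (K.el g) = U.φ (K.el h)) : g = h :=
  K.el_inj (U.φ_inj e (U.e_ne K 0) (by rw [K.el_fixes, K.el_fixes]))

/-- Its preimage in the cover. -/
noncomputable def grp : Subgroup C := (U.bar K).comap U.π

theorem mem_grp {x : C} : x ∈ U.grp K ↔ ∃ h, U.φ (K.el h) = U.π x := Iff.rfl

theorem z_mem : U.z ∈ U.grp K := (U.mem_grp K).2 ⟨Herm.zero, by rw [K.el_zero, map_one, U.z_ker]⟩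

theorem grp_sq {x : C} (hx : x ∈ U.grp K) : x * x = 1 := by
  obtain ⟨h, e⟩ := (U.mem_grp K).1 hx
  exact U.lift_sq (by rw [← e, ← map_mul, K.el_sq, map_one])

theorem grp_comm {x y : C} (hx : x ∈ U.grp K) (hy : y ∈ U.grp K) : Commute x y := by
  show x * y = y * x
  calc x * y = (x * y)⁻¹ := eq_inv_of_mul_eq_one_left (U.grp_sq K (mul_mem hx hy))
    _ = y * x := by rw [_root_.mul_inv_rev, inv_eq_of_mul_eq_one_right (U.grp_sq K hx),
        inv_eq_of_mul_eq_one_right (U.grp_sq K hy)]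

theorem grp_pgroup : IsPGroup 2 ↥(U.grp K) := fun x =>
  ⟨1, Subtype.ext (by simpa [pow_two] using U.grp_sq K x.2)⟩

theorem card_herm : Nat.card Herm = 512 := by
  rw [Nat.card_congr (Equiv.ofBijective (fun h : Herm => (⟨h.toNat, (ofNat_toNat h).2⟩ : Fin 512))
    ⟨fun a b e => by
      have e' : a.toNat = b.toNat := congrArg Fin.val e
      rw [← (ofNat_toNat a).1, ← (ofNat_toNat b).1, e'], fun n => ⟨Herm.ofNat n.1, Fin.ext ?_⟩⟩), Nat.card_fin]
  exact toNat_ofNat n
where
  toNat_ofNat : ∀ n : Fin 512, (Herm.ofNat n.1).toNat = n.1 := by decide +kernel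

theorem card_bar : Nat.card ↥(U.bar K) = 512 := by
  rw [← card_herm]
  exact (Nat.card_congr (Equiv.ofBijective (fun h : Herm => (⟨U.φ (K.el h), h, rfl⟩ : ↥(U.bar K)))
    ⟨fun a b e => U.bar_inj K (congrArg Subtype.val e), fun ⟨q, h, e⟩ => ⟨h, Subtype.ext e⟩⟩)).symm

theorem card_preimage (R : Subgroup Q) : Nat.card ↥(R.comap U.π) = 2 * Nat.card ↥R := by
  let f : ↥(R.comap U.π) →* ↥R := (U.π.comp (R.comap U.π).subtype).codRestrict R fun x => x.2
  have hf : Function.Surjective f := fun q => by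
    obtain ⟨x, hx⟩ := U.double.surj q.1
    exact ⟨⟨x, show U.π x ∈ R by rw [hx]; exact q.2⟩, Subtype.ext hx⟩
  have hk : Nat.card ↥f.ker = 2 := by
    rw [Nat.card_eq_two_iff]
    refine ⟨1, ⟨⟨U.z, show U.π U.z ∈ R by rw [U.z_ker]; exact one_mem R⟩, Subtype.ext U.z_ker⟩,
      fun e => U.z_ne (congrArg (fun y => y.1.1) e).symm, Set.eq_univ_of_forall fun y => ?_⟩
    rcases U.double.ker y.1.1 (congrArg Subtype.val y.2) with e | e
    · exact Or.inl (Subtype.ext (Subtype.ext e))
    · exact Or.inr (Subtype.ext (Subtype.ext e))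
  rw [Subgroup.card_eq_card_quotient_mul_card_subgroup f.ker, hk, mul_comm,
    Nat.card_congr (QuotientGroup.quotientKerEquivOfSurjective f hf).toEquiv]

theorem card_grp : Nat.card ↥(U.grp K) = 1024 := by
  rw [grp, U.card_preimage, U.card_bar]

/-- A 2-subgroup of the quotient comes from one of the special unitary group. -/
theorem exists_lift {R : Subgroup Q} (hR : IsPGroup 2 ↥R) :
    ∃ P : Subgroup U.H.SIsom, IsPGroup 2 ↥P ∧ P.map U.φ = R := by
  haveI := U.six.fd
  haveI : Finite V := Module.finite_of_finite F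
  haveI : Finite (V ≃ₗ[F] V) := Finite.of_injective (fun e => (e : V → V)) DFunLike.coe_injective
  haveI : Fact (Nat.Prime 2) := ⟨Nat.prime_two⟩
  set M := R.comap U.φ with hM
  obtain ⟨P⟩ : Nonempty (Sylow 2 ↥M) := inferInstance
  refine ⟨(P : Subgroup ↥M).map M.subtype, P.isPGroup'.map _, ?_⟩
  let f : ↥M →* ↥R := (U.φ.comp M.subtype).codRestrict R fun x => x.2
  have hf : Function.Surjective f := fun q => by
    obtain ⟨x, hx⟩ := U.φsurj q.1
    exact ⟨⟨x, show U.φ x ∈ R by rw [hx]; exact q.2⟩, Subtype.ext hx⟩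
  haveI : Finite ↥R := Finite.of_surjective f hf
  have hle : (P : Subgroup ↥M).map f = ⊤ := by
    rw [← Subgroup.index_eq_one]
    have h1 : ((P : Subgroup ↥M).map f).index ∣ (P : Subgroup ↥M).index := Subgroup.index_map_dvd _ hf
    obtain ⟨k, hk⟩ := (hR.to_subgroup ⊤).exists_card_eq
    rw [Subgroup.card_top] at hk
    obtain ⟨j, -, hj⟩ := (Nat.dvd_prime_pow Nat.prime_two).1 (hk ▸ Subgroup.index_dvd_card ((P : Subgroup ↥M).map f))
    rcases Nat.eq_zero_or_pos j with rfl | hj0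
    · simpa using hj
    · exact absurd (dvd_trans (dvd_trans (hj ▸ dvd_pow_self 2 hj0.ne') h1) dvd_rfl) P.not_dvd_index
  refine le_antisymm ?_ fun q hq => ?_
  · rintro _ ⟨_, ⟨x, -, rfl⟩, rfl⟩
    exact x.2
  · obtain ⟨x, hx, e⟩ := hle.ge (mem_top (⟨q, hq⟩ : ↥R))
    exact ⟨x.1, ⟨x, hx, rfl⟩, congrArg Subtype.val e⟩

theorem upper_mul : ∀ a b c a' b' c' : Q4, M3.mul (upper a b c) (upper a' b' c') =
    upper (a.add a') ((b.add b').add (a.mul c')) (c.add c') := by decide +kernel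

/-- An elementary group in upper unitriangular coordinates is the group of the frame or smaller. -/
theorem small_upper {P : Subgroup U.H.SIsom} (hfix : ∀ g ∈ P, g.1.1 (K.frame.e 0) = K.frame.e 0)
    (hsq : ∀ g ∈ P, g * g = 1) (hcm : ∀ g ∈ P, ∀ k ∈ P, Commute g k)
    (hup : ∀ g ∈ P, K.frame.Stab g ∧ ∃ a b c : Q4, K.frame.rho g = mat K.w (upper a b c)) :
    (∀ g ∈ P, ∃ h, g = K.el h) ∨ Nat.card ↥P < 512 := by
  classical
  by_cases hall : ∀ g ∈ P, K.frame.rho g = 1
  · exact Or.inl fun g hg => K.exists_el ((K.frame.rho_eq_one K.six (hup g hg).1).1 (hall g hg))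
  refine Or.inr ?_
  choose hst a b c habc using hup
  have hcode : ∀ g hg, K.frame.rho g = mat K.w (upper (a g hg) (b g hg) (c g hg)) := habc
  have hone : mat K.w (upper .o .o .o) = 1 := by
    ext i j
    fin_cases i <;> fin_cases j <;> simp [mat, upper, val]
  let r : ↥P → Q4 × Q4 × Q4 := fun g => (a g.1 g.2, b g.1 g.2, c g.1 g.2)
  -- the codes square to one and commute
  have hsq' : ∀ g : ↥P, (r g).1 = .o ∨ (r g).2.2 = .o := fun g => by
    have h1 := K.frame.rho_mul K.six (hst g.1 g.2) (hst g.1 g.2)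
    rw [hsq g.1 g.2, (K.frame.rho_eq_one K.six (K.frame.stab_of_fix fun i => rfl)).2 (fun i => rfl), hcode g.1 g.2,
      ← K.prim.mat_mul K.six, upper_mul, ← hone] at h1
    have h2 := K.prim.mat_inj K.six h1
    simp only [upper, M3.mk.injEq] at h2
    have key : ∀ x y u : Q4, Q4.o = ((y.add y).add (x.mul u)) → x = .o ∨ u = .o := by decide
    exact key _ (b g.1 g.2) _ h2.2.2.1
  have hcm' : ∀ g k : ↥P, ¬ ((r g).1 ≠ .o ∧ (r k).2.2 ≠ .o) := by
    rintro g k ⟨hg, hk⟩
    have hgc : (r g).2.2 = .o := (hsq' g).resolve_left hg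
    have hka : (r k).1 = .o := (hsq' k).resolve_right hk
    have h1 : K.frame.rho g.1 * K.frame.rho k.1 = K.frame.rho k.1 * K.frame.rho g.1 := by
      rw [← K.frame.rho_mul K.six (hst g.1 g.2) (hst k.1 k.2), ← K.frame.rho_mul K.six (hst k.1 k.2) (hst g.1 g.2),
        (hcm g.1 g.2 k.1 k.2).eq]
    rw [hcode g.1 g.2, hcode k.1 k.2, ← K.prim.mat_mul K.six, ← K.prim.mat_mul K.six, upper_mul, upper_mul] at h1
    have h2 := K.prim.mat_inj K.six h1
    simp only [upper, M3.mk.injEq] at h2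
    have key : ∀ x y y' u : Q4, (y.add y').add (x.mul u) = (y'.add y).add (Q4.mul .o .o) → x = .o ∨ u = .o := by decide
    have h3 := h2.2.2.1
    simp only [r] at hgc hka
    rw [hgc, hka] at h3
    exact (key _ _ _ _ h3).elim hg hk
  -- the matrices fixed
  let L : Finset Herm := Finset.univ.filter fun h => K.el h ∈ P
  have hfixed : ∀ h ∈ L, ∀ g : ↥P, M3.congr (upper (r g).1 (r g).2.1 (r g).2.2) h.toM = h.toM := by
    intro h hh g
    refine (K.el_conj_iff (hst g.1 g.2) (hcode g.1 g.2) h).1 ?_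
    rw [(hcm g.1 g.2 _ (Finset.mem_filter.1 hh).2).eq, mul_inv_cancel_right]
  have hsub : ∀ (p : Herm → Bool), (∀ h ∈ L, p h = true) → L.card ≤ (allHerm.filter p).length := fun p hp => by
    refine le_trans (Finset.card_le_card fun h hh => List.mem_toFinset.2 ?_) (List.toFinset_card_le _)
    refine List.mem_filter.2 ⟨?_, hp h hh⟩
    obtain ⟨e, hn⟩ := ofNat_toNat h
    exact List.mem_map.2 ⟨h.toNat, List.mem_range.2 hn, e⟩
  -- the image
  haveI : Fintype ↥(Set.range r) := Fintype.ofFinite _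
  set R : Finset (Q4 × Q4 × Q4) := (Set.range r).toFinset with hR
  have hcount : Nat.card ↥P ≤ R.card * L.card := by
    choose g₀ hg₀ using fun q : ↥(Set.range r) => q.2
    have hg : ∀ g : ↥P, ∃ h ∈ L, g.1 = (g₀ ⟨r g, g, rfl⟩).1 * K.el h := by
      intro g
      set k := g₀ ⟨r g, g, rfl⟩
      have hk : r k = r g := hg₀ _
      have hk2 := hsq k.1 k.2
      have hmem : k.1 * g.1 ∈ P := mul_mem k.2 g.2
      obtain ⟨h, hh⟩ := K.exists_el (g := k.1 * g.1) ((K.frame.rho_eq_one K.six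
        (K.frame.stab_mul (hst k.1 k.2) (hst g.1 g.2))).1 (by
          have h1 := K.frame.rho_mul K.six (hst k.1 k.2) (hst k.1 k.2)
          rw [hk2, (K.frame.rho_eq_one K.six (K.frame.stab_of_fix fun i => rfl)).2 (fun i => rfl)] at h1
          rw [K.frame.rho_mul K.six (hst k.1 k.2) (hst g.1 g.2), hcode g.1 g.2]
          simp only [r, Prod.mk.injEq] at hk
          obtain ⟨e1, e2, e3⟩ := hk
          rw [← e1, ← e2, ← e3, ← hcode k.1 k.2, ← h1]))
      refine ⟨h, Finset.mem_filter.2 ⟨Finset.mem_univ _, hh ▸ hmem⟩, ?_⟩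
      rw [← hh, ← mul_assoc, hk2, one_mul]
    choose hf hfL hfe using hg
    rw [← Finset.card_product]
    let F' : ↥P → ↥(R ×ˢ L) := fun g =>
      ⟨(r g, hf g), Finset.mem_product.2 ⟨Set.mem_toFinset.2 ⟨g, rfl⟩, hfL g⟩⟩
    have := Nat.card_le_card_of_injective F' fun g k e => by
      have e' := Prod.ext_iff.1 (congrArg Subtype.val e)
      refine Subtype.ext ?_
      rw [hfe g, hfe k]
      simp only [F'] at e'
      rw [e'.2]
      congr 3
      exact Subtype.ext e'.1
    rwa [Nat.card_eq_fintype_card (α := ↥(R ×ˢ L)), Fintype.card_coe] at this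
  have hmemR : ∀ t ∈ R, ∃ g, r g = t := fun t ht => by
    have h := Set.mem_toFinset.1 (hR ▸ ht)
    exact h
  obtain ⟨g₁, hg₁⟩ : ∃ g : ↥P, r g ≠ (.o, .o, .o) := by
    by_contra hc
    push Not at hc
    refine hall fun g hg => ?_
    have := hc ⟨g, hg⟩
    simp only [r, Prod.mk.injEq] at this
    rw [hcode g hg, this.1, this.2.1, this.2.2, hone]
  have h32 : L.card ≤ 32 := by
    have h1 := hsub (fun h => decide (M3.congr (upper (r g₁).1 (r g₁).2.1 (r g₁).2.2) h.toM = h.toM))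
      fun h hh => decide_eq_true (hfixed h hh g₁)
    have h2 := fixed_one (r g₁).1 (r g₁).2.1 (r g₁).2.2 (hsq' g₁) fun e => hg₁ (Prod.ext e.1 (Prod.ext e.2.1 e.2.2))
    simp only [fixedBy] at h2
    exact le_trans h1 h2
  have hcases : R ⊆ Finset.univ.filter (fun t : Q4 × Q4 × Q4 => t.2.2 = .o) ∨
      R ⊆ Finset.univ.filter (fun t : Q4 × Q4 × Q4 => t.1 = .o) := by
    by_cases he : ∃ k, (r k).2.2 ≠ .o
    · obtain ⟨k, hk⟩ := he
      refine Or.inr fun t ht => Finset.mem_filter.2 ⟨Finset.mem_univ _, ?_⟩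
      obtain ⟨g, rfl⟩ := hmemR t ht
      by_contra hc
      exact hcm' g k ⟨hc, hk⟩
    · push Not at he
      refine Or.inl fun t ht => Finset.mem_filter.2 ⟨Finset.mem_univ _, ?_⟩
      obtain ⟨g, rfl⟩ := hmemR t ht
      exact he g
  rcases hcases with hh | hh
  · have h16 := Finset.card_le_card hh
    rw [show (Finset.univ.filter fun t : Q4 × Q4 × Q4 => t.2.2 = .o).card = 16 by decide] at h16
    rcases h16.lt_or_eq with hlt | heq
    · have : R.card * L.card ≤ 15 * 32 := Nat.mul_le_mul (by omega) h32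
      omega
    · have hall' := Finset.eq_of_subset_of_card_le hh (by rw [heq]; decide)
      have hget : ∀ x y : Q4, ∃ g, r g = (x, y, .o) := fun x y => hmemR _ (by rw [hall']; simp)
      have hL : L.card ≤ 16 := by
        obtain ⟨p1, e1⟩ := hget .i .o
        obtain ⟨p2, e2⟩ := hget .w .o
        obtain ⟨p3, e3⟩ := hget .o .i
        obtain ⟨p4, e4⟩ := hget .o .w
        refine (hsub _ fun h hh => decide_eq_true ?_).trans fixed_row
        have f1 := hfixed h hh p1; have f2 := hfixed h hh p2; have f3 := hfixed h hh p3; have f4 := hfixed h hh p4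
        rw [e1] at f1; rw [e2] at f2; rw [e3] at f3; rw [e4] at f4
        exact ⟨f1, f2, f3, f4⟩
      have : R.card * L.card ≤ 16 * 16 := Nat.mul_le_mul (by omega) hL
      omega
  · have h16 := Finset.card_le_card hh
    rw [show (Finset.univ.filter fun t : Q4 × Q4 × Q4 => t.1 = .o).card = 16 by decide] at h16
    rcases h16.lt_or_eq with hlt | heq
    · have : R.card * L.card ≤ 15 * 32 := Nat.mul_le_mul (by omega) h32
      omega
    · have hall' := Finset.eq_of_subset_of_card_le hh (by rw [heq]; decide)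
      have hget : ∀ y u : Q4, ∃ g, r g = (.o, y, u) := fun y u => hmemR _ (by rw [hall']; simp)
      have hL : L.card ≤ 16 := by
        obtain ⟨p1, e1⟩ := hget .i .o
        obtain ⟨p2, e2⟩ := hget .w .o
        obtain ⟨p3, e3⟩ := hget .o .i
        obtain ⟨p4, e4⟩ := hget .o .w
        refine (hsub _ fun h hh => decide_eq_true ?_).trans fixed_col
        have f1 := hfixed h hh p1; have f2 := hfixed h hh p2; have f3 := hfixed h hh p3; have f4 := hfixed h hh p4
        rw [e1] at f1; rw [e2] at f2; rw [e3] at f3; rw [e4] at f4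
        exact ⟨f1, f2, f3, f4⟩
      have : R.card * L.card ≤ 16 * 16 := Nat.mul_le_mul (by omega) hL
      omega

/-- Membership in the stabiliser forces conjugation inside the group. -/
theorem conj_grp {g : U.H.SIsom} (hg : K.frame.Stab g) {c : C} (hc : U.π c = U.φ g) {x : C} (hx : x ∈ U.grp K) :
    c * x * c⁻¹ ∈ U.grp K := by
  obtain ⟨h, e⟩ := (U.mem_grp K).1 hx
  have hfix : ∀ i, (g * K.el h * g⁻¹).1.1 (K.frame.e i) = K.frame.e i := fun i => by
    rw [Coord.el, K.frame.el_conj K.six hg (K.prim.herm_isHerm K.six h)]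
    exact K.frame.acts_fixes (K.frame.el_acts K.six (Frame.congr_herm (K.prim.herm_isHerm K.six h) _)) i
  obtain ⟨h', e'⟩ := K.exists_el hfix
  exact (U.mem_grp K).2 ⟨h', by rw [← e', map_mul, map_mul, map_inv, map_mul, map_mul, map_inv, e, hc]⟩

/-- A Sylow 2-subgroup holds exactly one elementary abelian subgroup of order at least `2 ^ 10`. -/
theorem exists_in_sylow (S : Sylow 2 C) :
    ∃ K : Coord U.H, U.grp K ≤ (S : Subgroup C) ∧ ∀ E : Subgroup C, E ≤ (S : Subgroup C) →
      (∀ x ∈ E, x * x = 1) → 1024 ≤ Nat.card ↥E → E = U.grp K := by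
  classical
  haveI : Fact (Nat.Prime 2) := ⟨Nat.prime_two⟩
  obtain ⟨P, hP, hmap⟩ := U.exists_lift (R := (S : Subgroup C).map U.π) (S.isPGroup'.map _)
  obtain ⟨K, hK⟩ := exists_coord_pgroup U.six hP
  have hpre : ∀ c ∈ (S : Subgroup C), ∃ g ∈ P, U.φ g = U.π c := fun c hc => by
    obtain ⟨g, hg, e⟩ := hmap.ge (mem_map_of_mem U.π hc)
    exact ⟨g, hg, e⟩
  have hnorm : (S : Subgroup C) ≤ normalizer (U.grp K : Set C) := fun c hc => by
    obtain ⟨g, hg, e⟩ := hpre c hc
    obtain ⟨g', hg', e'⟩ := hpre c⁻¹ (inv_mem hc)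
    refine mem_normalizer_iff.2 fun x => ⟨U.conj_grp K (hK g hg).1 e.symm, fun h => ?_⟩
    have := U.conj_grp K (hK g' hg').1 e'.symm h
    rwa [show c⁻¹ * (c * x * c⁻¹) * c⁻¹⁻¹ = x by group] at this
  have hle : U.grp K ≤ (S : Subgroup C) := by
    have hsup := S.isPGroup'.to_sup_of_normal_right' (U.grp_pgroup K) hnorm
    exact (S.is_maximal' hsup le_sup_left) ▸ le_sup_right
  refine ⟨K, hle, fun E hES hsq hcard => ?_⟩
  have hEcm : ∀ x ∈ E, ∀ y ∈ E, Commute x y := fun x hx y hy => by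
    show x * y = y * x
    calc x * y = (x * y)⁻¹ := eq_inv_of_mul_eq_one_left (hsq _ (mul_mem hx hy))
      _ = y * x := by rw [_root_.mul_inv_rev, inv_eq_of_mul_eq_one_right (hsq x hx),
          inv_eq_of_mul_eq_one_right (hsq y hy)]
  set P' := P ⊓ (E.map U.π).comap U.φ
  have hfix : ∀ g ∈ P, g.1.1 (K.frame.e 0) = K.frame.e 0 := fun g hg => by
    obtain ⟨hst, a, b, c, e⟩ := hK g hg
    rw [K.frame.rho_apply K.six hst 0, e]
    simp [Fin.sum_univ_three, mat, upper, val]
  have hinj : ∀ g ∈ P, ∀ k ∈ P, U.φ g = U.φ k → g = k := fun g hg k hk e =>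
    U.φ_inj e (U.e_ne K 0) (by rw [hfix g hg, hfix k hk])
  have hsqP : ∀ g ∈ P', g * g = 1 := fun g hg => by
    obtain ⟨x, hx, e⟩ := hg.2
    exact hinj _ (mul_mem hg.1 hg.1) _ (one_mem P) (by rw [map_mul, map_one, ← e, ← map_mul, hsq x hx, map_one])
  have hcmP : ∀ g ∈ P', ∀ k ∈ P', Commute g k := fun g hg k hk => by
    obtain ⟨x, hx, e⟩ := hg.2
    obtain ⟨y, hy, e'⟩ := hk.2
    exact hinj _ (mul_mem hg.1 hk.1) _ (mul_mem hk.1 hg.1)
      (by rw [map_mul, map_mul, ← e, ← e', ← map_mul, ← map_mul, (hEcm x hx y hy).eq])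
  rcases U.small_upper K (P := P') (fun g hg => hfix g hg.1) hsqP hcmP (fun g hg => hK g hg.1) with h | h
  · refine eq_of_le_of_card_ge (fun x hx => ?_) (by rw [U.card_grp K]; exact hcard)
    obtain ⟨g, hg, e⟩ := hpre x (hES hx)
    obtain ⟨f, rfl⟩ := h g ⟨hg, x, hx, e.symm⟩
    exact (U.mem_grp K).2 ⟨f, e⟩
  · exfalso
    haveI : Finite ↥(E.map U.π) := Finite.of_surjective (U.π.subgroupMap E) (U.π.subgroupMap_surjective E)
    have h1 : Nat.card ↥(E.map U.π) ≤ Nat.card ↥P' := by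
      haveI : Finite ↥P' := Nat.finite_of_card_ne_zero (by
        haveI := U.six.fd
        haveI : Finite V := Module.finite_of_finite F
        haveI : Finite (V ≃ₗ[F] V) := Finite.of_injective (fun e => (e : V → V)) DFunLike.coe_injective
        exact Nat.card_pos.ne')
      refine Nat.card_le_card_of_surjective (fun g => ⟨U.φ g.1, g.2.2⟩) fun q => ?_
      obtain ⟨x, hx, e⟩ := q.2
      obtain ⟨g, hg, e'⟩ := hpre x (hES hx)
      exact ⟨⟨g, hg, x, hx, e'.symm⟩, Subtype.ext (e'.trans e)⟩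
    have h2 : Nat.card ↥E ≤ 2 * Nat.card ↥(E.map U.π) := by
      rw [← U.card_preimage]
      exact Nat.card_le_card_of_injective (inclusion (le_comap_map U.π E)) (inclusion_injective _)
    omega

theorem thompson_eq (S : Sylow 2 C) :
    ∃ K : Coord U.H, U.grp K ≤ (S : Subgroup C) ∧ Cfsg.thompsonSubgroupOf 2 (S : Subgroup C) = U.grp K := by
  obtain ⟨K, hle, huniq⟩ := U.exists_in_sylow S
  refine ⟨K, hle, ?_⟩
  set A' := (U.grp K).subgroupOf (S : Subgroup C)
  have hcard : Nat.card ↥A' = 1024 := by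
    rw [Nat.card_congr (subgroupOfEquivOfLe hle).toEquiv, U.card_grp]
  have hA'e : Cfsg.IsElementaryAbelian 2 A' :=
    ⟨⟨⟨fun a b => Subtype.ext (Subtype.ext (U.grp_comm K a.2 b.2).eq)⟩⟩,
      fun a ha => Subtype.ext (by rw [pow_two]; exact U.grp_sq K ha)⟩
  have hbig : ∀ E : Subgroup ↥(S : Subgroup C), Cfsg.IsElementaryAbelian 2 E → 1024 ≤ Nat.card ↥E → E = A' := by
    intro E hE hc
    have := huniq (E.map (S : Subgroup C).subtype) (map_subtype_le E) (by
      rintro _ ⟨x, hx, rfl⟩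
      have := congrArg Subtype.val (hE.2 x hx)
      rw [← pow_two]; exact this) (by rwa [Subgroup.card_subtype])
    ext x
    rw [show A' = (U.grp K).subgroupOf (S : Subgroup C) from rfl, mem_subgroupOf, ← this]
    exact ⟨fun hx => ⟨x, hx, rfl⟩, fun ⟨y, hy, e⟩ => Subtype.ext e ▸ hy⟩
  have hJ : Cfsg.maxElementaryAbelianSubgroups 2 ↥(S : Subgroup C) = {A'} := by
    ext E
    constructor
    · rintro ⟨hEe, hEmax⟩
      exact hbig E hEe (hcard ▸ hEmax A' hA'e)
    · rintro rfl
      refine ⟨hA'e, fun E hEe => ?_⟩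
      rcases le_or_gt 1024 (Nat.card ↥E) with h | h
      · exact (hbig E hEe h).symm ▸ le_rfl
      · exact hcard.symm ▸ h.le
  rw [Cfsg.thompsonSubgroupOf, Cfsg.thompsonSubgroup, hJ, sSup_singleton, Subgroup.map_subgroupOf_eq_of_le hle]

/-- Elementary abelian subgroups of order `2 ^ 10` are conjugate. -/
theorem exists_conj_grp {E : Subgroup C} (hsq : ∀ x ∈ E, x * x = 1) (hcard : 1024 ≤ Nat.card ↥E) :
    ∃ g : C, E.map (MulAut.conj g).toMonoidHom = U.grp K := by
  haveI : Fact (Nat.Prime 2) := ⟨Nat.prime_two⟩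
  have hp : IsPGroup 2 ↥E := fun x => ⟨1, Subtype.ext (by simpa [pow_two] using hsq x x.2)⟩
  obtain ⟨P, hP⟩ := (U.grp_pgroup K).exists_le_sylow
  obtain ⟨R, hR⟩ := hp.exists_le_sylow
  obtain ⟨g, hg⟩ := MulAction.exists_smul_eq C R P
  obtain ⟨K', -, hu⟩ := U.exists_in_sylow P
  refine ⟨g, ?_⟩
  rw [hu (U.grp K) hP (fun x hx => U.grp_sq K hx) (U.card_grp K).ge]
  refine hu _ ?_ ?_ ?_
  · rw [← hg, Sylow.coe_subgroup_smul]
    exact map_mono hR
  · rintro _ ⟨x, hx, rfl⟩
    rw [← map_mul, hsq x hx, map_one]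
  · rwa [← Nat.card_congr (E.equivMapOfInjective _ (MulAut.conj g).injective).toEquiv]

end Setup

end Cfsg.Lib.USixFusion
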