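import Cfsg.Agent.USixFusion.Codes

/-!
Frames adapted to 2-groups and to involutions.
-/

set_option autoImplicit false
set_option linter.unusedSectionVars false
set_option linter.style.haveILetI false

namespace Cfsg.Lib.USixFusion

open Cfsg.Lib.Classical Cfsg.Lib.ThreeTr Matrix

universe u v

variable {F : Type u} [Field F] [Finite F] {V : Type v} [AddCommGroup V] [Module F V] {H : HermSpace F V}
  (hS : IsSixSpace H)
include hS

/-- A 2-group fixes a vector outside modulo an invariant subspace of smaller dimension. -/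
theorem exists_fixed_mod {P : Subgroup H.SIsom} (hP : IsPGroup 2 P) {S U : Submodule F V} (hSU : S ≤ U)
    (hlt : Module.finrank F S < Module.finrank F U) (hSi : ∀ g ∈ P, ∀ s ∈ S, g.1.1 s ∈ S)
    (hUi : ∀ g ∈ P, ∀ s ∈ U, g.1.1 s ∈ U) :
    ∃ x ∈ U, x ∉ S ∧ ∀ g ∈ P, g.1.1 x - x ∈ S := by
  classical
  haveI := hS.fd
  haveI : Finite V := Module.finite_of_finite F
  haveI : Fact (Nat.Prime 2) := ⟨Nat.prime_two⟩
  set T : Submodule F U := S.comap U.subtype with hT
  let res : ↥P → (↥U →ₗ[F] ↥U) := fun g => (g.1.1.1.toLinearMap).restrict fun x hx => hUi g.1 g.2 x hx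
  have hres : ∀ g, T ≤ T.comap (res g) := fun g x hx => hSi g.1 g.2 x.1 hx
  letI : MulAction ↥P (↥U ⧸ T) :=
    { smul := fun g m => T.mapQ T (res g) (hres g) m
      one_smul := fun m => by
        induction m using Submodule.Quotient.induction_on with
        | H x => exact congrArg Submodule.Quotient.mk (Subtype.ext rfl)
      mul_smul := fun g k m => by
        induction m using Submodule.Quotient.induction_on with
        | H x => exact congrArg Submodule.Quotient.mk (Subtype.ext rfl) }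
  obtain ⟨x₀, hx₀U, hx₀⟩ : ∃ x ∈ U, x ∉ S := by
    by_contra hc
    push Not at hc
    exact absurd (le_antisymm hSU hc ▸ hlt) (lt_irrefl _)
  set m₀ : ↥U ⧸ T := Submodule.Quotient.mk ⟨x₀, hx₀U⟩
  have hm₀ : m₀ ≠ 0 := fun e => hx₀ ((Submodule.Quotient.mk_eq_zero T).1 e)
  haveI : Finite (↥U ⧸ T) := Finite.of_surjective _ (Submodule.Quotient.mk_surjective T)
  have heven : 2 ∣ Nat.card (↥U ⧸ T) := by
    have h2 : addOrderOf m₀ = 2 := addOrderOf_eq_prime (by
      rw [two_nsmul, ← Submodule.Quotient.mk_add]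
      exact (Submodule.Quotient.mk_eq_zero T).2 (by
        show (x₀ + x₀) ∈ S
        rw [hS.vadd_self]; exact S.zero_mem)) hm₀
    exact h2 ▸ addOrderOf_dvd_natCard m₀
  have hfix0 : (0 : ↥U ⧸ T) ∈ MulAction.fixedPoints ↥P (↥U ⧸ T) := fun g => map_zero (T.mapQ T (res g) (hres g))
  obtain ⟨m, hm, hm0⟩ := hP.exists_fixed_point_of_prime_dvd_card_of_fixed_point (↥U ⧸ T) heven hfix0
  induction m using Submodule.Quotient.induction_on with
  | H x =>
    refine ⟨x.1, x.2, fun h => hm0 ((Submodule.Quotient.mk_eq_zero T).2 h).symm, fun g hg => ?_⟩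
    exact (Submodule.Quotient.eq T).1 (hm ⟨g, hg⟩)

/-- A fixed isotropic vector extending a small invariant totally isotropic subspace. -/
theorem exists_step {P : Subgroup H.SIsom} (hP : IsPGroup 2 P) {S : Submodule F V} (hd : Module.finrank F S < 3)
    (hiso : ∀ x ∈ S, ∀ y ∈ S, H.h x y = 0) (hSi : ∀ g ∈ P, ∀ s ∈ S, g.1.1 s ∈ S) :
    ∃ x, x ∉ S ∧ H.h x x = 0 ∧ x ∈ H.orth S ∧ ∀ g ∈ P, g.1.1 x - x ∈ S := by
  haveI := hS.fd
  have hSo : S ≤ H.orth S := fun x hx y hy => hiso x hx y hy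
  have hback : ∀ g ∈ P, ∀ y, H.h (g.1.1 y) = fun z => H.h y ((g⁻¹ : H.SIsom).1.1 z) := fun g _ y => funext fun z => by
    conv_lhs => rw [← H.apply_inv_self g.1 z, H.map_form g.1]
    rfl
  have hoi : ∀ g ∈ P, ∀ y ∈ H.orth S, g.1.1 y ∈ H.orth S := fun g hg y hy s hs => by
    rw [hback g hg y]
    exact hy _ (hSi _ (inv_mem hg) s hs)
  have hdim := H.finrank_orth S
  rw [hS.dim] at hdim
  obtain ⟨x, hxo, hxS, hx⟩ := exists_fixed_mod hS hP hSo (by omega) hSi hoi
  rcases hS.toFour.self_cases x with hxx | hxx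
  · exact ⟨x, hxS, hxx, hxo, hx⟩
  set U := H.orth S ⊓ H.orth (Submodule.span F {x}) with hU
  have hmemU : ∀ y, y ∈ U ↔ y ∈ H.orth S ∧ H.h y x = 0 := fun y => by
    rw [hU, Submodule.mem_inf, H.mem_orth_span]; simp
  have hUd : Module.finrank F S < Module.finrank F U := by
    have h1 := Submodule.finrank_sup_add_finrank_inf_eq (H.orth S) (H.orth (Submodule.span F {x}))
    have h2 := Submodule.finrank_le (H.orth S ⊔ H.orth (Submodule.span F {x}))
    have h3 := H.finrank_orth (Submodule.span F {x})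
    have h4 : Module.finrank F (Submodule.span F ({x} : Set V)) = 1 :=
      finrank_span_singleton fun e => hxS (e ▸ S.zero_mem)
    rw [hS.dim] at h2 h3
    rw [← hU] at h1
    omega
  obtain ⟨y, hyU, hyS, hy⟩ := exists_fixed_mod hS hP
    (fun s hs => (hmemU s).2 ⟨hSo hs, H.eq_zero_symm (hxo s hs)⟩) hUd hSi (fun g hg y hy => by
      obtain ⟨h1, h2⟩ := (hmemU y).1 hy
      refine (hmemU _).2 ⟨hoi g hg y h1, ?_⟩
      rw [hback g hg y]
      have h3 := h1 _ (hx _ (inv_mem hg))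
      rw [H.sub_right, h2, sub_zero] at h3
      exact h3)
  obtain ⟨hyo, hyx⟩ := (hmemU y).1 hyU
  rcases hS.toFour.self_cases y with hyy | hyy
  · exact ⟨y, hyS, hyy, hyo, hy⟩
  refine ⟨x + y, fun h => ?_, ?_, add_mem hxo hyo, fun g hg => ?_⟩
  · have := H.eq_zero_symm (hxo _ h)
    rw [H.add_left, hxx, hyx, add_zero] at this
    exact one_ne_zero this
  · simp only [H.add_left, H.add_right, hxx, hyy, hyx, H.eq_zero_symm hyx, add_zero, zero_add]
    exact hS.add_self 1
  · rw [map_add, add_sub_add_comm]; exact add_mem (hx g hg) (hy g hg)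

/-- A frame on given mutually orthogonal isotropic independent vectors. -/
theorem exists_frame {e : Fin 3 → V} (hiso : ∀ i j, H.h (e i) (e j) = 0) (hli : LinearIndependent F e) :
    ∃ B : Frame H, B.e = e := by
  classical
  haveI := hS.fd
  let b := Module.Basis.span hli
  have hb : ∀ j, ((b j : ↥(Submodule.span F (Set.range e))) : V) = e j := fun j => by simp [b]
  choose y hy using fun i => H.exists_extend_dual (b.constr F fun j => if j = i then (1 : F) else 0)
  have hey : ∀ j i, H.h (e j) (y i) = if j = i then 1 else 0 := fun j i => by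
    rw [← hb, hy i (b j), b.constr_basis]
  have hye : ∀ j i, H.h (y i) (e j) = if j = i then 1 else 0 := fun j i => by
    rw [H.symm, hey, apply_ite H.σ, map_one, map_zero]
  obtain ⟨θ, hθ⟩ := H.conj.exists_trace_one
  have hself : ∀ i, H.σ (H.h (y i) (y i)) = H.h (y i) (y i) := fun i => H.self_fixed _
  let f : Fin 3 → V := ![y 0 + (θ * H.h (y 0) (y 0)) • e 0,
    y 1 + (θ * H.h (y 1) (y 1)) • e 1 + H.h (y 1) (y 0) • e 0,
    y 2 + (θ * H.h (y 2) (y 2)) • e 2 + H.h (y 2) (y 0) • e 0 + H.h (y 2) (y 1) • e 1]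
  have key : ∀ i, H.h (f i) (f i) = H.h (y i) (y i) + (θ + H.σ θ) * H.h (y i) (y i) := by
    intro i
    fin_cases i <;>
      simp [f, H.add_left, H.add_right, H.smul_left, H.smul_right, hiso, hey, hye, hself] <;> ring
  refine ⟨⟨e, f, hiso, fun i j => ?_, fun i j => ?_⟩, rfl⟩
  · by_cases hij : i = j
    · subst hij
      rw [key, hθ, one_mul]
      exact hS.add_self _
    fin_cases i <;> fin_cases j <;>
      first
        | exact absurd rfl hij
        | (simp [f, H.add_left, H.add_right, H.smul_left, H.smul_right, hiso, hey, hye]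
           first
            | exact hS.add_self _
            | (rw [← H.symm]; exact hS.add_self _))
  · fin_cases i <;> fin_cases j <;> simp [f, H.add_right, H.smul_right, hiso, hey]

/-- A flag frame from a rule extending invariant subspaces. -/
theorem exists_flag {P : Subgroup H.SIsom} (U : Submodule F V)
    (hstep : ∀ S : Submodule F V, S ≤ U → Module.finrank F S < 3 → (∀ x ∈ S, ∀ y ∈ S, H.h x y = 0) →
      (∀ g ∈ P, ∀ s ∈ S, g.1.1 s ∈ S) →
      ∃ x ∈ U, x ∉ S ∧ H.h x x = 0 ∧ x ∈ H.orth S ∧ ∀ g ∈ P, g.1.1 x - x ∈ S) :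
    ∃ B : Frame H, (∀ i, B.e i ∈ U) ∧ ∀ g ∈ P, g.1.1 (B.e 0) = B.e 0 ∧
      (∃ a : F, g.1.1 (B.e 1) = B.e 1 + a • B.e 0) ∧
      ∃ b c : F, g.1.1 (B.e 2) = B.e 2 + b • B.e 0 + c • B.e 1 := by
  haveI := hS.fd
  obtain ⟨x, hxU, hxS, hxx, -, hx⟩ := hstep ⊥ bot_le (by simp) (by simp [H.zero_left]) (by simp)
  have hx0 : x ≠ 0 := fun e => hxS (e ▸ Submodule.zero_mem _)
  have hxf : ∀ g ∈ P, g.1.1 x = x := fun g hg => sub_eq_zero.1 ((Submodule.mem_bot F).1 (hx g hg))
  set S1 := Submodule.span F ({x} : Set V) with hS1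
  have hS1i : ∀ g ∈ P, ∀ s ∈ S1, g.1.1 s ∈ S1 := fun g hg s hs => by
    obtain ⟨a, rfl⟩ := Submodule.mem_span_singleton.1 hs
    rw [map_smul, hxf g hg]; exact hs
  have hS1iso : ∀ a ∈ S1, ∀ b ∈ S1, H.h a b = 0 := fun a ha b hb => by
    obtain ⟨a, rfl⟩ := Submodule.mem_span_singleton.1 ha
    obtain ⟨b, rfl⟩ := Submodule.mem_span_singleton.1 hb
    simp [H.smul_left, H.smul_right, hxx]
  obtain ⟨y, hyU, hyS, hyy, hyo, hy⟩ := hstep S1 ((Submodule.span_singleton_le_iff_mem _ _).2 hxU)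
    (by rw [hS1, finrank_span_singleton hx0]; norm_num) hS1iso hS1i
  have hyx : H.h y x = 0 := hyo x (Submodule.mem_span_singleton_self x)
  have hyf : ∀ g ∈ P, ∃ a : F, g.1.1 y = y + a • x := fun g hg => by
    obtain ⟨a, ha⟩ := Submodule.mem_span_singleton.1 (hy g hg)
    exact ⟨a, by rw [ha, add_sub_cancel]⟩
  set S2 := Submodule.span F ({x, y} : Set V) with hS2
  have hS2i : ∀ g ∈ P, ∀ s ∈ S2, g.1.1 s ∈ S2 := fun g hg s hs => by
    obtain ⟨a, b, rfl⟩ := Submodule.mem_span_pair.1 hs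
    obtain ⟨c, hc⟩ := hyf g hg
    rw [map_add, map_smul, map_smul, hxf g hg, hc, smul_add, smul_smul]
    exact Submodule.mem_span_pair.2 ⟨a + b * c, b, by rw [add_smul]; abel⟩
  have hS2iso : ∀ a ∈ S2, ∀ b ∈ S2, H.h a b = 0 := fun a ha b hb => by
    obtain ⟨a, a', rfl⟩ := Submodule.mem_span_pair.1 ha
    obtain ⟨b, b', rfl⟩ := Submodule.mem_span_pair.1 hb
    simp [H.add_left, H.add_right, H.smul_left, H.smul_right, hxx, hyy, hyx, H.eq_zero_symm hyx]
  have hli2 : LinearIndependent F ![x, y] := by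
    rw [LinearIndependent.pair_iff' hx0]
    exact fun a e => hyS (e ▸ Submodule.smul_mem _ a (Submodule.mem_span_singleton_self x))
  obtain ⟨z, hzU, hzS, hzz, hzo, hz⟩ := hstep S2 (Submodule.span_le.2 (by rintro _ (rfl | rfl) <;> assumption))
    (by
      have := finrank_span_eq_card hli2
      rw [Matrix.range_cons_cons_empty, Fintype.card_fin] at this
      rw [hS2, this]; norm_num) hS2iso hS2i
  have hzx : H.h z x = 0 := hzo x (Submodule.subset_span (by simp))
  have hzy : H.h z y = 0 := hzo y (Submodule.subset_span (by simp))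
  obtain ⟨B, hB⟩ := exists_frame hS (e := ![x, y, z]) (fun i j => by
      fin_cases i <;> fin_cases j <;>
        simp [hxx, hyy, hzz, hyx, hzx, hzy, H.eq_zero_symm hyx, H.eq_zero_symm hzx, H.eq_zero_symm hzy])
    (by
      rw [Fintype.linearIndependent_iff]
      intro g hg
      simp only [Fin.sum_univ_three] at hg
      simp only [Matrix.cons_val] at hg
      have h2 : g 2 = 0 := by
        by_contra h
        refine hzS ?_
        have : z = (-(g 2)⁻¹) • (g 0 • x + g 1 • y) := by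
          have e : g 2 • z = -(g 0 • x + g 1 • y) := eq_neg_of_add_eq_zero_right hg
          rw [neg_smul, ← smul_neg, ← e, smul_smul, inv_mul_cancel₀ h, one_smul]
        rw [this]
        exact Submodule.smul_mem _ _ (Submodule.mem_span_pair.2 ⟨_, _, rfl⟩)
      rw [h2, zero_smul, add_zero] at hg
      have h01 := LinearIndependent.pair_iff.1 hli2 _ _ hg
      intro i
      fin_cases i <;> simp [h01.1, h01.2, h2])
  refine ⟨B, fun i => by rw [hB]; fin_cases i <;> simpa, fun g hg => ?_⟩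
  rw [hB]
  obtain ⟨b, c, hbc⟩ := Submodule.mem_span_pair.1 (hz g hg)
  refine ⟨by simpa using hxf g hg, by simpa using hyf g hg, b, c, ?_⟩
  show g.1.1 z = z + b • x + c • y
  rw [add_assoc, hbc, add_sub_cancel]

/-- Coordinates in which the members of a 2-group are upper unitriangular. -/
theorem exists_coord_pgroup {P : Subgroup H.SIsom} (hP : IsPGroup 2 P) :
    ∃ K : Coord H, ∀ g ∈ P, K.frame.Stab g ∧ ∃ a b c : Q4, K.frame.rho g = mat K.w (upper a b c) := by
  obtain ⟨ω, hω⟩ := exists_prim hS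
  obtain ⟨B, -, hB⟩ := exists_flag hS (P := P) ⊤ fun S _ hd hiso hSi => by
    obtain ⟨x, h1, h2, h3, h4⟩ := exists_step hS hP hd hiso hSi
    exact ⟨x, trivial, h1, h2, h3, h4⟩
  exact ⟨⟨hS, B, ω, hω⟩, fun g hg => upper_of_flag hS B hω (hB g hg)⟩
where
  upper_of_flag {F : Type u} [Field F] [Finite F] {V : Type v} [AddCommGroup V] [Module F V] {H : HermSpace F V}
      (hS : IsSixSpace H) (B : Frame H) {ω : F} (hω : Prim H ω) {g : H.SIsom}
      (h : g.1.1 (B.e 0) = B.e 0 ∧ (∃ a : F, g.1.1 (B.e 1) = B.e 1 + a • B.e 0) ∧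
        ∃ b c : F, g.1.1 (B.e 2) = B.e 2 + b • B.e 0 + c • B.e 1) :
      B.Stab g ∧ ∃ a b c : Q4, B.rho g = mat ω (upper a b c) := by
    obtain ⟨h0, ⟨a, h1⟩, b, c, h2⟩ := h
    refine ⟨fun i => ?_, ?_⟩
    · fin_cases i
      · show g.1.1 (B.e 0) ∈ B.W
        rw [h0]; exact B.e_mem 0
      · show g.1.1 (B.e 1) ∈ B.W
        rw [h1]; exact add_mem (B.e_mem 1) (Submodule.smul_mem _ _ (B.e_mem 0))
      · show g.1.1 (B.e 2) ∈ B.W
        rw [h2]; exact add_mem (add_mem (B.e_mem 2) (Submodule.smul_mem _ _ (B.e_mem 0))) (Submodule.smul_mem _ _ (B.e_mem 1))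
    · obtain ⟨a', ha⟩ := hω.val_surj hS a
      obtain ⟨b', hb⟩ := hω.val_surj hS b
      obtain ⟨c', hc⟩ := hω.val_surj hS c
      refine ⟨a', b', c', ?_⟩
      ext i j
      fin_cases i <;> fin_cases j <;>
        simp [Frame.rho, mat, upper, h0, h1, h2, ha, hb, hc, H.add_left, H.smul_left, B.ef] <;> rfl

/-- Coordinates on the same space in which the members of a 2-group stabilising it are upper unitriangular. -/
theorem exists_coord_within {P : Subgroup H.SIsom} (hP : IsPGroup 2 P) (B₀ : Frame H) (hst : ∀ g ∈ P, B₀.Stab g) :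
    ∃ K : Coord H, K.frame.W = B₀.W ∧ ∀ g ∈ P, K.frame.Stab g ∧ ∃ a b c : Q4, K.frame.rho g = mat K.w (upper a b c) := by
  haveI := hS.fd
  obtain ⟨ω, hω⟩ := exists_prim hS
  have hiso : ∀ x ∈ B₀.W, ∀ y ∈ B₀.W, H.h x y = 0 := fun x hx y hy => by
    rw [B₀.W_expand hS hy, H.sum_right]
    exact Finset.sum_eq_zero fun i _ => by rw [H.smul_right, B₀.W_iso hx, mul_zero]
  have hli : LinearIndependent F B₀.e := by
    rw [Fintype.linearIndependent_iff]
    intro c hc k
    have := congrArg (fun x => H.h x (B₀.f k)) hc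
    simpa [B₀.sum_e_left, B₀.ef, H.zero_left] using this
  have hW : Module.finrank F B₀.W = 3 := by
    rw [Frame.W, finrank_span_eq_card hli, Fintype.card_fin]
  obtain ⟨B, hBW, hB⟩ := exists_flag hS (P := P) B₀.W fun S hSU hd _ hSi => by
    obtain ⟨x, hxU, hxS, hx⟩ := exists_fixed_mod hS hP hSU (by omega) hSi
      fun g hg s hs => B₀.stab_apply (hst g hg) hs
    exact ⟨x, hxU, hxS, hiso x hxU x hxU, fun s hs => hiso x hxU s (hSU hs), hx⟩
  refine ⟨⟨hS, B, ω, hω⟩, ?_, fun g hg => exists_coord_pgroup.upper_of_flag hS B hω (hB g hg)⟩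
  refine le_antisymm (Submodule.span_le.2 (by rintro _ ⟨i, rfl⟩; exact hBW i)) fun x hx => ?_
  exact (B.mem_W hS).2 fun k => hiso x hx _ (hBW k)

/-- An involution fixes the space of some frame pointwise. -/
theorem exists_coord_fixed {g : H.SIsom} (hg : g * g = 1) :
    ∃ K : Coord H, ∀ i, g.1.1 (K.frame.e i) = K.frame.e i := by
  haveI := hS.fd
  obtain ⟨ω, hω⟩ := exists_prim hS
  let U : Submodule F V := LinearMap.eqLocus g.1.1.toLinearMap LinearMap.id
  have hU : ∀ x, x ∈ U ↔ g.1.1 x = x := fun x => Iff.rfl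
  have hgg : ∀ x, g.1.1 (g.1.1 x) = x := fun x => by rw [← H.smul_mul_apply, hg]; rfl
  obtain ⟨B, hB, -⟩ := exists_flag hS (P := ⊥) U fun S hSU hd hiso _ => by
    by_cases hN : ∀ v, g.1.1 v + v ∈ S
    · obtain ⟨x, hxS, hxx, hxo, -⟩ := exists_step hS (P := (⊥ : Subgroup H.SIsom)) IsPGroup.of_bot hd hiso
        (fun k hk s hs => by rw [Subgroup.mem_bot.1 hk]; exact hs)
      refine ⟨x, (hU x).2 ?_, hxS, hxx, hxo, fun k hk => by rw [Subgroup.mem_bot.1 hk]; simp⟩
      refine H.ext_of_forall fun v => ?_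
      have h1 := H.eq_zero_symm (hxo _ (hN v))
      rw [H.add_left] at h1
      rw [hS.toFour.eq_of_add h1 |>.symm]
      conv_lhs => rw [← hgg v]
      rw [H.map_form]
    · push Not at hN
      obtain ⟨v, hv⟩ := hN
      have hn : g.1.1 (g.1.1 v + v) = g.1.1 v + v := by rw [map_add, hgg, add_comm]
      have hperp : ∀ s, g.1.1 s = s → H.h (g.1.1 v + v) s = 0 := fun s hs => by
        rw [H.add_left]
        conv_lhs => arg 1; rw [← hs, H.map_form]
        exact hS.add_self _
      exact ⟨_, (hU _).2 hn, hv, hperp _ hn, fun s hs => hperp s ((hU s).1 (hSU hs)),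
        fun k hk => by rw [Subgroup.mem_bot.1 hk]; simp⟩
  exact ⟨⟨hS, B, ω, hω⟩, fun i => (hU _).1 (hB i)⟩

end Cfsg.Lib.USixFusion
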