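import Cfsg.Agent.ThreeTransposition.DoubleCover.Lift
import Cfsg.Agent.USixFusion.Checks

/-!
Hyperbolic frames of a hermitian space of dimension six over the field with four elements: the elements fixing the
totally isotropic space of a frame pointwise are given by the hermitian matrices, and those stabilising it act on them
by congruence.
-/

set_option autoImplicit false
set_option linter.unusedSectionVars false
set_option linter.style.haveILetI false

namespace Cfsg.Lib.USixFusion

open Cfsg.Lib.Classical Cfsg.Lib.ThreeTr Matrix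

universe u v

variable {F : Type u} [Field F] {V : Type v} [AddCommGroup V] [Module F V] {H : HermSpace F V}

/-- Three mutually orthogonal hyperbolic pairs. -/
structure Frame (H : HermSpace F V) where
  e : Fin 3 → V
  f : Fin 3 → V
  ee : ∀ i j, H.h (e i) (e j) = 0
  ff : ∀ i j, H.h (f i) (f j) = 0
  ef : ∀ i j, H.h (e i) (f j) = if i = j then 1 else 0

namespace Frame

variable (B : Frame H)

theorem fe (i j : Fin 3) : H.h (B.f i) (B.e j) = if i = j then 1 else 0 := by
  rw [H.symm, B.ef, apply_ite H.σ, map_one, map_zero]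
  simp [eq_comm]

theorem sum_e_left (c : Fin 3 → F) (x : V) : H.h (∑ i, c i • B.e i) x = ∑ i, c i * H.h (B.e i) x := by
  rw [H.sum_left]; simp only [H.smul_left]

theorem sum_f_left (c : Fin 3 → F) (x : V) : H.h (∑ i, c i • B.f i) x = ∑ i, c i * H.h (B.f i) x := by
  rw [H.sum_left]; simp only [H.smul_left]

theorem coord_e (c d : Fin 3 → F) (k : Fin 3) :
    H.h (∑ i, c i • B.e i + ∑ i, d i • B.f i) (B.e k) = d k := by
  rw [H.add_left, B.sum_e_left, B.sum_f_left]
  simp [B.ee, B.fe]

theorem coord_f (c d : Fin 3 → F) (k : Fin 3) :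
    H.h (∑ i, c i • B.e i + ∑ i, d i • B.f i) (B.f k) = c k := by
  rw [H.add_left, B.sum_e_left, B.sum_f_left]
  simp [B.ef, B.ff]

variable (hS : IsSixSpace H)
include hS

theorem span_top : Submodule.span F (Set.range (Sum.elim B.e B.f)) = ⊤ := by
  haveI := hS.fd
  refine LinearIndependent.span_eq_top_of_card_eq_finrank' ?_ ?_
  · rw [Fintype.linearIndependent_iff]
    intro g hg
    rw [Fintype.sum_sum_type] at hg
    simp only [Sum.elim_inl, Sum.elim_inr] at hg
    rintro (k | k)
    · have := B.coord_f (fun i => g (Sum.inl i)) (fun i => g (Sum.inr i)) k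
      rw [hg, H.zero_left] at this
      exact this.symm
    · have := B.coord_e (fun i => g (Sum.inl i)) (fun i => g (Sum.inr i)) k
      rw [hg, H.zero_left] at this
      exact this.symm
  · rw [Fintype.card_sum, Fintype.card_fin, hS.dim]

theorem ext {x y : V} (he : ∀ k, H.h x (B.e k) = H.h y (B.e k)) (hf : ∀ k, H.h x (B.f k) = H.h y (B.f k)) :
    x = y := by
  have h0 : ∀ w, H.h (x - y) w = 0 := by
    intro w
    have hw : w ∈ Submodule.span F (Set.range (Sum.elim B.e B.f)) := by rw [B.span_top hS]; trivial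
    induction hw using Submodule.span_induction with
    | mem w hw =>
      obtain ⟨k | k, rfl⟩ := hw <;> rw [H.sub_left]
      · exact sub_eq_zero.2 (he k)
      · exact sub_eq_zero.2 (hf k)
    | zero => exact H.zero_right _
    | add a b _ _ ha hb => rw [H.add_right, ha, hb, add_zero]
    | smul c a _ ha => rw [H.smul_right, ha, mul_zero]
  exact sub_eq_zero.1 (H.nondeg _ fun w => H.eq_zero_symm (h0 w))

theorem expand (x : V) :
    x = ∑ i, H.h x (B.f i) • B.e i + ∑ i, H.h x (B.e i) • B.f i :=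
  B.ext hS (fun k => (B.coord_e (fun i => H.h x (B.f i)) (fun i => H.h x (B.e i)) k).symm)
    fun k => (B.coord_f (fun i => H.h x (B.f i)) (fun i => H.h x (B.e i)) k).symm

omit hS

/-- The span of the first members. -/
def W : Submodule F V := Submodule.span F (Set.range B.e)

theorem e_mem (i : Fin 3) : B.e i ∈ B.W := Submodule.subset_span ⟨i, rfl⟩

theorem W_iso {x : V} (hx : x ∈ B.W) : ∀ k, H.h x (B.e k) = 0 := by
  induction hx using Submodule.span_induction with
  | mem w hw => obtain ⟨i, rfl⟩ := hw; exact B.ee i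
  | zero => exact fun k => H.zero_left _
  | add a b _ _ ha hb => exact fun k => by rw [H.add_left, ha, hb, add_zero]
  | smul c a _ ha => exact fun k => by rw [H.smul_left, ha, mul_zero]

include hS in
theorem mem_W {x : V} : x ∈ B.W ↔ ∀ k, H.h x (B.e k) = 0 := by
  refine ⟨B.W_iso, fun h => ?_⟩
  rw [B.expand hS x]
  simp only [h, zero_smul, Finset.sum_const_zero, add_zero]
  exact Submodule.sum_mem _ fun i _ => Submodule.smul_mem _ _ (B.e_mem i)

include hS in
theorem W_expand {x : V} (hx : x ∈ B.W) : x = ∑ i, H.h x (B.f i) • B.e i := by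
  conv_lhs => rw [B.expand hS x]
  simp [B.W_iso hx]

/-- Fixed by the conjugate transpose. -/
def IsHerm (H : HermSpace F V) (M : Matrix (Fin 3) (Fin 3) F) : Prop := ∀ i j, M j i = H.σ (M i j)

/-- An element acting as a matrix on the frame. -/
def Acts (g : H.SIsom) (M : Matrix (Fin 3) (Fin 3) F) : Prop :=
  ∀ x, g.1.1 x = x + ∑ i, (∑ j, M i j * H.h x (B.e j)) • B.e i

theorem acts_add {g k : H.SIsom} {M N : Matrix (Fin 3) (Fin 3) F} (hg : B.Acts g M) (hk : B.Acts k N) :
    B.Acts (g * k) (M + N) := fun x => by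
  have h0 : ∀ j, H.h (∑ i, (∑ l, N i l * H.h x (B.e l)) • B.e i) (B.e j) = 0 := fun j =>
    B.W_iso (Submodule.sum_mem _ fun i _ => Submodule.smul_mem _ _ (B.e_mem i)) j
  rw [H.smul_mul_apply, hk, hg]
  simp only [H.add_left, h0, add_zero, Matrix.add_apply, add_mul, Finset.sum_add_distrib, add_smul]
  abel

theorem acts_one : B.Acts (1 : H.SIsom) 0 := fun x => by
  simp only [Matrix.zero_apply, zero_mul, Finset.sum_const_zero, zero_smul, add_zero]
  rfl

include hS

theorem acts_rank_one (c : Fin 3 → F) : ∃ g, B.Acts g (Matrix.of fun i j => c i * H.σ (c j)) := by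
  have hu : H.h (∑ i, c i • B.e i) (∑ i, c i • B.e i) = 0 := by
    simp [H.sum_left, H.sum_right, H.smul_left, H.smul_right, B.ee]
  refine ⟨hS.tv hu, fun x => ?_⟩
  rw [hS.tv_apply, Finset.smul_sum, H.sum_right]
  congr 1
  refine Finset.sum_congr rfl fun i _ => ?_
  rw [smul_smul, Finset.sum_mul]
  congr 1
  refine Finset.sum_congr rfl fun j _ => ?_
  rw [H.smul_right, Matrix.of_apply]
  ring

theorem exists_acts {M : Matrix (Fin 3) (Fin 3) F} (hM : IsHerm H M) : ∃ g, B.Acts g M := by
  classical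
  let r : (Fin 3 → F) → Matrix (Fin 3) (Fin 3) F := fun c => Matrix.of fun i j => c i * H.σ (c j)
  have hfix : ∀ i, M i i = 0 ∨ M i i = 1 := fun i => hS.toFour.fixed_cases (hM i i).symm
  let off : Fin 3 → Fin 3 → Matrix (Fin 3) (Fin 3) F := fun i j =>
    r (Pi.single i (M i j) + Pi.single j 1) + r (Pi.single i (M i j)) + r (Pi.single j 1)
  let diag : Fin 3 → Matrix (Fin 3) (Fin 3) F := fun i => r (Pi.single i (M i i))
  have hoff : ∀ i j, ∃ g, B.Acts g (off i j) := fun i j => by
    obtain ⟨a, ha⟩ := B.acts_rank_one hS (Pi.single i (M i j) + Pi.single j 1)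
    obtain ⟨b, hb⟩ := B.acts_rank_one hS (Pi.single i (M i j))
    obtain ⟨c, hc⟩ := B.acts_rank_one hS (Pi.single j (1 : F))
    exact ⟨a * b * c, B.acts_add (B.acts_add ha hb) hc⟩
  obtain ⟨a0, h0⟩ := B.acts_rank_one hS (Pi.single 0 (M 0 0))
  obtain ⟨a1, h1⟩ := B.acts_rank_one hS (Pi.single 1 (M 1 1))
  obtain ⟨a2, h2⟩ := B.acts_rank_one hS (Pi.single 2 (M 2 2))
  obtain ⟨a3, h3⟩ := hoff 0 1
  obtain ⟨a4, h4⟩ := hoff 0 2
  obtain ⟨a5, h5⟩ := hoff 1 2
  refine ⟨a0 * a1 * a2 * a3 * a4 * a5, ?_⟩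
  have key := B.acts_add (B.acts_add (B.acts_add (B.acts_add (B.acts_add h0 h1) h2) h3) h4) h5
  convert key using 1
  have h2F := hS.two
  have hm : ∀ a, H.σ (H.σ a) = a := H.conj.invol
  have hn : ∀ i, M i i * H.σ (M i i) = M i i := fun i => by rcases hfix i with e | e <;> simp [e]
  ext i j
  fin_cases i <;> fin_cases j <;> simp [off, r, hn, hm, hM 0 1, hM 0 2, hM 1 2] <;>
    ring_nf <;> simp [hS.two, hS.three, hS.four, hS.five]

/-- The element given by a matrix. -/
noncomputable def el (M : Matrix (Fin 3) (Fin 3) F) : H.SIsom :=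
  haveI := Classical.propDecidable (IsHerm H M)
  if h : IsHerm H M then (B.exists_acts hS h).choose else 1

theorem el_acts {M : Matrix (Fin 3) (Fin 3) F} (hM : IsHerm H M) : B.Acts (B.el hS M) M := by
  rw [el, dif_pos hM]
  exact (B.exists_acts hS hM).choose_spec

omit hS

theorem acts_unique {g k : H.SIsom} {M : Matrix (Fin 3) (Fin 3) F} (hg : B.Acts g M) (hk : B.Acts k M) : g = k :=
  H.sisom_ext fun x => by rw [hg, hk]

theorem acts_matrix {g : H.SIsom} {M : Matrix (Fin 3) (Fin 3) F} (hg : B.Acts g M) (i j : Fin 3) :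
    M i j = H.h (g.1.1 (B.f j) - B.f j) (B.f i) := by
  rw [hg, add_sub_cancel_left, B.sum_e_left]
  simp [B.ef, B.fe]

theorem herm_add {M N : Matrix (Fin 3) (Fin 3) F} (hM : IsHerm H M) (hN : IsHerm H N) : IsHerm H (M + N) :=
  fun i j => by rw [Matrix.add_apply, Matrix.add_apply, map_add, hM i j, hN i j]

theorem acts_fixes {g : H.SIsom} {M : Matrix (Fin 3) (Fin 3) F} (hg : B.Acts g M) (i : Fin 3) :
    g.1.1 (B.e i) = B.e i := by
  rw [hg]; simp [B.ee]

theorem acts_fixes_W {g : H.SIsom} {M : Matrix (Fin 3) (Fin 3) F} (hg : B.Acts g M) {x : V} (hx : x ∈ B.W) :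
    g.1.1 x = x := by
  rw [hg]; simp [B.W_iso hx]

include hS

theorem el_add {M N : Matrix (Fin 3) (Fin 3) F} (hM : IsHerm H M) (hN : IsHerm H N) :
    B.el hS M * B.el hS N = B.el hS (M + N) :=
  B.acts_unique (B.acts_add (B.el_acts hS hM) (B.el_acts hS hN)) (B.el_acts hS (herm_add hM hN))

theorem el_inj {M N : Matrix (Fin 3) (Fin 3) F} (hM : IsHerm H M) (hN : IsHerm H N)
    (e : B.el hS M = B.el hS N) : M = N := by
  ext i j
  rw [B.acts_matrix (B.el_acts hS hM) i j, B.acts_matrix (B.el_acts hS hN) i j, e]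

theorem el_zero : B.el hS 0 = 1 := B.acts_unique (B.el_acts hS fun i j => by simp) B.acts_one

theorem add_self_matrix (M : Matrix (Fin 3) (Fin 3) F) : M + M = 0 := by
  ext i j; exact hS.add_self _

theorem el_sq {M : Matrix (Fin 3) (Fin 3) F} (hM : IsHerm H M) : B.el hS M * B.el hS M = 1 := by
  rw [B.el_add hS hM hM, add_self_matrix hS, B.el_zero hS]

/-- Elements fixing the space pointwise. -/
theorem exists_el {g : H.SIsom} (hg : ∀ i, g.1.1 (B.e i) = B.e i) : ∃ M, IsHerm H M ∧ g = B.el hS M := by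
  let M : Matrix (Fin 3) (Fin 3) F := Matrix.of fun i j => H.h (g.1.1 (B.f j) - B.f j) (B.f i)
  have hmem : ∀ x, g.1.1 x - x ∈ B.W := fun x => (B.mem_W hS).2 fun k => by
    rw [H.sub_left, sub_eq_zero]
    conv_lhs => rw [← hg k]
    exact H.map_form g.1 x _
  have hM : IsHerm H M := fun i j => by
    have h1 := H.map_form g.1 (B.f i) (B.f j)
    have h0 : H.h (g.1.1 (B.f i) - B.f i) (g.1.1 (B.f j) - B.f j) = 0 := by
      rw [B.W_expand hS (hmem (B.f i)), B.sum_e_left]
      exact Finset.sum_eq_zero fun k _ => by rw [H.eq_zero_symm (B.W_iso (hmem (B.f j)) k), mul_zero]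
    have h2 : H.h (g.1.1 (B.f i) - B.f i) (B.f j) + H.h (B.f i) (g.1.1 (B.f j) - B.f j) = 0 := by
      simp only [H.sub_left, H.sub_right, B.ff] at h0 ⊢
      rw [h1, B.ff] at h0
      linear_combination -h0
    show H.h (g.1.1 (B.f i) - B.f i) (B.f j) = H.σ (H.h (g.1.1 (B.f j) - B.f j) (B.f i))
    rw [← H.symm]
    exact hS.toFour.eq_of_add h2
  refine ⟨M, hM, H.sisom_ext fun x => ?_⟩
  rw [B.el_acts hS hM]
  refine B.ext hS (fun k => ?_) fun k => ?_
  · rw [show g.1.1 x = (g.1.1 x - x) + x by abel, H.add_left, B.W_iso (hmem x), zero_add, H.add_left,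
      B.W_iso (Submodule.sum_mem _ fun i _ => Submodule.smul_mem _ _ (B.e_mem i)), add_zero]
  · conv_lhs => rw [B.expand hS x]
    simp only [map_add, map_sum, map_smul, hg, H.add_left, H.sum_left, H.smul_left, B.ef]
    have e1 : ∀ j, H.h (g.1.1 (B.f j)) (B.f k) = M k j := fun j => by
      simp [M, H.sub_left, B.ff]
    simp only [e1]
    simp [mul_comm]

omit hS

/-- Stabilising the space. -/
def Stab (g : H.SIsom) : Prop := ∀ i, g.1.1 (B.e i) ∈ B.W

/-- The matrix of the action on the space. -/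
def rho (g : H.SIsom) : Matrix (Fin 3) (Fin 3) F := Matrix.of fun i j => H.h (g.1.1 (B.e j)) (B.f i)

theorem stab_of_fix {g : H.SIsom} (hg : ∀ i, g.1.1 (B.e i) = B.e i) : B.Stab g := fun i => by
  rw [hg]; exact B.e_mem i

theorem stab_apply {g : H.SIsom} (hg : B.Stab g) {x : V} (hx : x ∈ B.W) : g.1.1 x ∈ B.W := by
  induction hx using Submodule.span_induction with
  | mem w hw => obtain ⟨i, rfl⟩ := hw; exact hg i
  | zero => simp
  | add a b _ _ ha hb => rw [map_add]; exact add_mem ha hb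
  | smul c a _ ha => rw [map_smul]; exact Submodule.smul_mem _ _ ha

theorem stab_mul {g k : H.SIsom} (hg : B.Stab g) (hk : B.Stab k) : B.Stab (g * k) := fun i => by
  rw [H.smul_mul_apply]; exact B.stab_apply hg (hk i)

include hS

theorem rho_apply {g : H.SIsom} (hg : B.Stab g) (j : Fin 3) :
    g.1.1 (B.e j) = ∑ i, B.rho g i j • B.e i := B.W_expand hS (hg j)

theorem rho_mul {g k : H.SIsom} (hg : B.Stab g) (hk : B.Stab k) : B.rho (g * k) = B.rho g * B.rho k := by
  ext i j
  show H.h ((g * k).1.1 (B.e j)) (B.f i) = _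
  rw [H.smul_mul_apply, B.rho_apply hS hk j, map_sum, H.sum_left, Matrix.mul_apply]
  refine Finset.sum_congr rfl fun l _ => ?_
  rw [map_smul, H.smul_left, mul_comm]
  rfl

theorem rho_eq_one {g : H.SIsom} (hg : B.Stab g) : B.rho g = 1 ↔ ∀ i, g.1.1 (B.e i) = B.e i := by
  refine ⟨fun h j => ?_, fun h => ?_⟩
  · rw [B.rho_apply hS hg j, h]; simp [Matrix.one_apply]
  · ext i j
    show H.h (g.1.1 (B.e j)) (B.f i) = _
    rw [h, B.ef, Matrix.one_apply]
    simp [eq_comm]

omit hS

theorem congr_herm {M : Matrix (Fin 3) (Fin 3) F} (hM : IsHerm H M) (A : Matrix (Fin 3) (Fin 3) F) :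
    IsHerm H (A * M * (A.map H.σ)ᵀ) := fun i j => by
  simp only [Matrix.mul_apply, Matrix.transpose_apply, Matrix.map_apply, map_sum, map_mul, H.conj.invol,
    Finset.sum_mul]
  rw [Finset.sum_comm]
  refine Finset.sum_congr rfl fun k _ => Finset.sum_congr rfl fun l _ => ?_
  rw [← hM l k]
  ring

include hS

/-- Conjugation by an element stabilising the space. -/
theorem el_conj {g : H.SIsom} (hg : B.Stab g) {M : Matrix (Fin 3) (Fin 3) F} (hM : IsHerm H M) :
    g * B.el hS M * g⁻¹ = B.el hS (B.rho g * M * ((B.rho g).map H.σ)ᵀ) := by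
  refine mul_inv_eq_iff_eq_mul.2 (H.sisom_ext fun x => ?_)
  rw [H.smul_mul_apply, H.smul_mul_apply, B.el_acts hS hM x, B.el_acts hS (congr_herm hM _) (g.1.1 x), map_add]
  congr 1
  have h1 : ∀ l, H.h (g.1.1 x) (g.1.1 (B.e l)) = H.h x (B.e l) := fun l => H.map_form g.1 x _
  have hx : ∀ l, H.h x (B.e l) = ∑ j, H.σ (B.rho g j l) * H.h (g.1.1 x) (B.e j) := fun l => by
    rw [← h1, B.rho_apply hS hg l, H.sum_right]
    simp only [H.smul_right]
  rw [map_sum]
  simp only [map_smul, B.rho_apply hS hg, Finset.smul_sum, smul_smul]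
  rw [Finset.sum_comm]
  refine Finset.sum_congr rfl fun a _ => ?_
  rw [← Finset.sum_smul]
  congr 1
  simp only [hx, Matrix.mul_apply, Matrix.transpose_apply, Matrix.map_apply, Fin.sum_univ_three]
  ring

end Frame

end Cfsg.Lib.USixFusion
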