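import Cfsg.Agent.USixFusion.Elementary

/-!
No complement to the central involution in the elementary abelian group is invariant under its normaliser: otherwise
a Sylow 2-subgroup would split over the central involution and transfer would contradict perfectness.
-/

set_option autoImplicit false
set_option linter.unusedSectionVars false
set_option linter.style.haveILetI false

namespace Cfsg.Lib.USixFusion

open Cfsg.Lib.Classical Cfsg.Lib.ThreeTr Subgroup
open scoped Pointwise

universe u v w w'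

namespace Frame

variable {F : Type u} [Field F] {V : Type v} [AddCommGroup V] [Module F V] {H : HermSpace F V}

/-- Exchanging some of the pairs. -/
def flip (B : Frame H) (s : Fin 3 → Bool) : Frame H where
  e i := if s i then B.f i else B.e i
  f i := if s i then B.e i else B.f i
  ee i j := by
    by_cases e : i = j
    · subst e; cases s i <;> simp [B.ee, B.ff]
    · cases s i <;> cases s j <;> simp [B.ee, B.ff, B.ef, B.fe, e]
  ff i j := by
    by_cases e : i = j
    · subst e; cases s i <;> simp [B.ee, B.ff]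
    · cases s i <;> cases s j <;> simp [B.ee, B.ff, B.ef, B.fe, e]
  ef i j := by
    by_cases e : i = j
    · subst e; cases s i <;> simp [B.ef, B.fe]
    · cases s i <;> cases s j <;> simp [B.ee, B.ff, B.ef, B.fe, e]

end Frame

/-- The codes of the forms carrying the row. -/
def rowForm (x y : Q4) : Herm := ⟨false, false, false, x, y, .o⟩

/-- The code of the form carrying the last elation. -/
def topForm (w : Q4) : Herm := ⟨false, false, false, .o, .o, w⟩

/-- The matrix of the last elation seen in the first exchanged frame. -/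
def lowM (w : Q4) : M3 := ⟨.i, .o, .o, .o, .i, .o, .o, w.conj, .i⟩

theorem val_o {F : Type*} [Field F] (ω : F) : val ω .o = 0 := rfl

theorem val_i {F : Type*} [Field F] (ω : F) : val ω .i = 1 := rfl

theorem low_row : ∀ w x y : Q4, ∃ x' y' : Q4, M3.congr (lowM w) (rowForm x y).toM = (rowForm x' y').toM := by
  decide +kernel

theorem row_add : ∀ x y x' y' : Q4, (rowForm x y).add (rowForm x' y') = rowForm (x.add x') (y.add y') := by decide

theorem top_add : ∀ w w' : Q4, (topForm w).add (topForm w') = topForm (w.add w') := by decide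

theorem upper_parts : ∀ x y w : Q4,
    M3.mul (upper x y .o) (upper .o .o w) = upper x (y.add (x.mul w)) w := by decide +kernel

variable {F : Type u} [Field F] [Finite F] {V : Type v} [AddCommGroup V] [Module F V] {C : Type w} [Group C] [Finite C]
  {Q : Type w'} [Group Q]

namespace Setup

variable (U : Setup F V C Q) (K : Coord U.H)

theorem no_invariant_complement (hperf : commutator C = ⊤) (hQ : Nat.card Q = 9196830720) {Hc : Subgroup C}
    (hle : Hc ≤ U.grp K) (hz : U.z ∉ Hc) (hhalf : ∀ x ∈ U.grp K, x ∈ Hc ∨ U.z * x ∈ Hc)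
    (hinv : ∀ n : C, (∀ x ∈ U.grp K, n * x * n⁻¹ ∈ U.grp K) → ∀ x ∈ Hc, n * x * n⁻¹ ∈ Hc) : False := by
  classical
  haveI : Finite Q := Nat.finite_of_card_ne_zero (by rw [hQ]; norm_num)
  set K1 : Coord U.H := ⟨U.six, K.frame.flip ![false, true, true], K.w, K.prim⟩ with hK1
  set K2 : Coord U.H := ⟨U.six, K.frame.flip ![false, false, true], K.w, K.prim⟩ with hK2
  have e1 : K1.frame.e 0 = K.frame.e 0 ∧ K1.frame.e 1 = K.frame.f 1 ∧ K1.frame.e 2 = K.frame.f 2 := ⟨rfl, rfl, rfl⟩
  have e2 : K2.frame.e 0 = K.frame.e 0 ∧ K2.frame.e 1 = K.frame.e 1 ∧ K2.frame.e 2 = K.frame.f 2 := ⟨rfl, rfl, rfl⟩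
  -- actions
  have hr : ∀ x y, K.frame.Stab (K1.el (rowForm x y)) ∧ K.frame.rho (K1.el (rowForm x y)) = mat K.w (upper x y .o) := by
    intro x y
    have h0 : (K1.el (rowForm x y)).1.1 (K.frame.e 0) = K.frame.e 0 := K1.el_fixes (rowForm x y) 0
    have h1 : (K1.el (rowForm x y)).1.1 (K.frame.e 1) = K.frame.e 1 + val K.w x • K.frame.e 0 := by
      rw [K1.el_acts (rowForm x y) (K.frame.e 1)]
      simp [Fin.sum_univ_three, e1.1, e1.2.1, e1.2.2, K.frame.ee, K.frame.ef, mat, Herm.toM, rowForm, bit, val_o, val_i, hK1, Frame.flip, show Q4.o.conj = Q4.o from rfl]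
    have h2 : (K1.el (rowForm x y)).1.1 (K.frame.e 2) = K.frame.e 2 + val K.w y • K.frame.e 0 := by
      rw [K1.el_acts (rowForm x y) (K.frame.e 2)]
      simp [Fin.sum_univ_three, e1.1, e1.2.1, e1.2.2, K.frame.ee, K.frame.ef, mat, Herm.toM, rowForm, bit, val_o, val_i, hK1, Frame.flip, show Q4.o.conj = Q4.o from rfl]
    refine ⟨fun i => ?_, ?_⟩
    · match i with
      | 0 =>
          rw [show _ = _ from h0]; exact K.frame.e_mem 0
      | 1 =>
          rw [show _ = _ from h1]; exact add_mem (K.frame.e_mem 1) (Submodule.smul_mem _ _ (K.frame.e_mem 0))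
      | 2 =>
          rw [show _ = _ from h2]; exact add_mem (K.frame.e_mem 2) (Submodule.smul_mem _ _ (K.frame.e_mem 0))
    · ext i j
      fin_cases i <;> fin_cases j <;>
        simp [Frame.rho, mat, upper, val_o, val_i, h0, h1, h2, U.H.add_left, U.H.smul_left, K.frame.ef]
  have ht : ∀ w, (K.frame.Stab (K2.el (topForm w)) ∧ K.frame.rho (K2.el (topForm w)) = mat K.w (upper .o .o w)) ∧
      (K1.frame.Stab (K2.el (topForm w)) ∧ K1.frame.rho (K2.el (topForm w)) = mat K.w (lowM w)) := by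
    intro w
    have h0 : (K2.el (topForm w)).1.1 (K.frame.e 0) = K.frame.e 0 := K2.el_fixes (topForm w) 0
    have h1 : (K2.el (topForm w)).1.1 (K.frame.e 1) = K.frame.e 1 := K2.el_fixes (topForm w) 1
    have h5 : (K2.el (topForm w)).1.1 (K.frame.f 2) = K.frame.f 2 := K2.el_fixes (topForm w) 2
    have h2 : (K2.el (topForm w)).1.1 (K.frame.e 2) = K.frame.e 2 + val K.w w • K.frame.e 1 := by
      rw [K2.el_acts (topForm w) (K.frame.e 2)]
      simp [Fin.sum_univ_three, e2.1, e2.2.1, e2.2.2, K.frame.ee, K.frame.ef, mat, Herm.toM, topForm, bit, val_o, val_i, hK2, Frame.flip, show Q4.o.conj = Q4.o from rfl]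
    have h4 : (K2.el (topForm w)).1.1 (K.frame.f 1) = K.frame.f 1 + val K.w w.conj • K.frame.f 2 := by
      rw [K2.el_acts (topForm w) (K.frame.f 1)]
      simp [Fin.sum_univ_three, e2.1, e2.2.1, e2.2.2, K.frame.ee, K.frame.ff, K.frame.fe, mat, Herm.toM, topForm, bit, val_o, val_i, hK2, Frame.flip, show Q4.o.conj = Q4.o from rfl]
    refine ⟨⟨fun i => ?_, ?_⟩, ⟨fun i => ?_, ?_⟩⟩
    · match i with
      | 0 =>
          rw [show _ = _ from h0]; exact K.frame.e_mem 0
      | 1 =>
          rw [show _ = _ from h1]; exact K.frame.e_mem 1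
      | 2 =>
          rw [show _ = _ from h2]; exact add_mem (K.frame.e_mem 2) (Submodule.smul_mem _ _ (K.frame.e_mem 1))
    · ext i j
      fin_cases i <;> fin_cases j <;>
        simp [Frame.rho, mat, upper, val_o, val_i, h0, h1, h2, U.H.add_left, U.H.smul_left, K.frame.ef]
    · match i with
      | 0 =>
          show (K2.el (topForm w)).1.1 (K.frame.e 0) ∈ K1.frame.W
          rw [h0]; exact K1.frame.e_mem 0
      | 1 =>
          show (K2.el (topForm w)).1.1 (K.frame.f 1) ∈ K1.frame.W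
          rw [h4]
          exact add_mem (K1.frame.e_mem 1) (Submodule.smul_mem _ _ (K1.frame.e_mem 2))
      | 2 =>
          show (K2.el (topForm w)).1.1 (K.frame.f 2) ∈ K1.frame.W
          rw [h5]; exact K1.frame.e_mem 2
    · ext i j
      fin_cases i <;> fin_cases j <;>
        simp [Frame.rho, Frame.flip, hK1, mat, lowM, val_o, val_i, h0, h4, h5, U.H.add_left, U.H.smul_left, K.frame.ef,
          K.frame.fe, K.frame.ff, K.frame.ee]
  -- uniqueness of the three parts
  let tri : Herm → Q4 → Q4 → Q4 → U.H.SIsom := fun h x y w => K.el h * (K1.el (rowForm x y) * K2.el (topForm w))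
  have htri : ∀ {h h' x y w x' y' w'}, U.φ (tri h x y w) = U.φ (tri h' x' y' w') → h = h' ∧ x = x' ∧ y = y' ∧ w = w' := by
    intro h h' x y w x' y' w' e
    have hfix : ∀ h x y w, (tri h x y w).1.1 (K.frame.e 0) = K.frame.e 0 := fun h x y w => by
      simp only [tri, U.H.smul_mul_apply]
      rw [show (K2.el (topForm w)).1.1 (K.frame.e 0) = K.frame.e 0 from K2.el_fixes (topForm w) 0,
        show (K1.el (rowForm x y)).1.1 (K.frame.e 0) = K.frame.e 0 from K1.el_fixes (rowForm x y) 0, K.el_fixes]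
    have e' := U.φ_inj e (U.e_ne K 0) (by rw [hfix, hfix])
    have hrho : ∀ h x y w, K.frame.rho (tri h x y w) = mat K.w (upper x (y.add (x.mul w)) w) := fun h x y w => by
      rw [← upper_parts, K.prim.mat_mul K.six, ← (hr x y).2, ← (ht w).1.2]
      simp only [tri]
      rw [K.frame.rho_mul K.six (K.frame.stab_of_fix (K.el_fixes h)) (K.frame.stab_mul (hr x y).1 (ht w).1.1),
        (K.frame.rho_eq_one K.six (K.frame.stab_of_fix (K.el_fixes h))).2 (K.el_fixes h), one_mul,
        K.frame.rho_mul K.six (hr x y).1 (ht w).1.1]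
    have h1 := K.prim.mat_inj K.six ((hrho h x y w).symm.trans ((congrArg K.frame.rho e').trans (hrho h' x' y' w')))
    simp only [upper, M3.mk.injEq] at h1
    obtain ⟨-, hx, hy, -, -, hw, -⟩ := h1
    subst hx hw
    have key : ∀ a b t : Q4, a.add t = b.add t → a = b := by decide
    have hy' := key _ _ _ hy
    subst hy'
    exact ⟨K.el_inj (mul_right_cancel e'), rfl, rfl, rfl⟩
  have hzero : tri Herm.zero .o .o .o = 1 := by
    simp only [tri, show rowForm .o .o = Herm.zero from rfl, show topForm .o = Herm.zero from rfl, K.el_zero,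
      K1.el_zero, K2.el_zero, one_mul]
  -- transport to the other frames
  have htrans : ∀ K' : Coord U.H, ∃ H' : Subgroup C, H' ≤ U.grp K' ∧ U.z ∉ H' ∧
      (∀ x ∈ U.grp K', x ∈ H' ∨ U.z * x ∈ H') ∧
      ∀ n : C, (∀ x ∈ U.grp K', n * x * n⁻¹ ∈ U.grp K') → ∀ x ∈ H', n * x * n⁻¹ ∈ H' := by
    intro K'
    obtain ⟨g, hg⟩ := U.exists_conj_grp K (fun x hx => U.grp_sq K' hx) (U.card_grp K').ge
    have hm : ∀ x, x ∈ U.grp K' ↔ g * x * g⁻¹ ∈ U.grp K := fun x => by
      rw [← hg]
      constructor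
      · exact fun hx => ⟨x, hx, rfl⟩
      · rintro ⟨y, hy, e⟩
        have e' : g * y * g⁻¹ = g * x * g⁻¹ := e
        rwa [← mul_left_cancel (mul_right_cancel e')]
    have hzc : g * U.z * g⁻¹ = U.z := by rw [← (U.double.central g).eq, mul_inv_cancel_right]
    refine ⟨Hc.comap (MulAut.conj g).toMonoidHom, fun x hx => (hm x).2 (hle hx), fun h => hz ?_, fun x hx => ?_,
      fun n hn x hx => ?_⟩
    · have : g * U.z * g⁻¹ ∈ Hc := h
      rwa [hzc] at this
    · rcases hhalf _ ((hm x).1 hx) with h | h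
      · exact Or.inl h
      · refine Or.inr ?_
        show g * (U.z * x) * g⁻¹ ∈ Hc
        rw [show g * (U.z * x) * g⁻¹ = (g * U.z * g⁻¹) * (g * x * g⁻¹) by group, hzc]
        exact h
    · have h1 := hinv (g * n * g⁻¹) (fun y hy => by
        have h2 := hn (g⁻¹ * y * g) ((hm _).2 (by rw [show g * (g⁻¹ * y * g) * g⁻¹ = y by group]; exact hy))
        have h3 := (hm _).1 h2
        rwa [show g * (n * (g⁻¹ * y * g) * n⁻¹) * g⁻¹ = g * n * g⁻¹ * y * (g * n * g⁻¹)⁻¹ by group] at h3) _ hx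
      show g * (n * x * n⁻¹) * g⁻¹ ∈ Hc
      rwa [show g * n * g⁻¹ * (MulAut.conj g).toMonoidHom x * (g * n * g⁻¹)⁻¹ = g * (n * x * n⁻¹) * g⁻¹ by
        show g * n * g⁻¹ * (g * x * g⁻¹) * (g * n * g⁻¹)⁻¹ = _
        group] at h1
  obtain ⟨H1, hle1, hz1, hhalf1, hinv1⟩ := htrans K1
  obtain ⟨H2, hle2, hz2, hhalf2, hinv2⟩ := htrans K2
  -- the parts
  let R : Subgroup Q :=
    { carrier := Set.range fun p : Q4 × Q4 => U.φ (K1.el (rowForm p.1 p.2))
      mul_mem' := by
        rintro _ _ ⟨p, rfl⟩ ⟨q, rfl⟩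
        exact ⟨(p.1.add q.1, p.2.add q.2), by simp only [← map_mul, K1.el_mul, row_add]⟩
      one_mem' := ⟨(.o, .o), by simp only [show rowForm .o .o = Herm.zero from rfl, K1.el_zero, map_one]⟩
      inv_mem' := by
        rintro _ ⟨p, rfl⟩
        exact ⟨p, eq_inv_of_mul_eq_one_left (by simp only [← map_mul, K1.el_sq, map_one])⟩ }
  let T : Subgroup Q :=
    { carrier := Set.range fun w : Q4 => U.φ (K2.el (topForm w))
      mul_mem' := by
        rintro _ _ ⟨p, rfl⟩ ⟨q, rfl⟩
        exact ⟨p.add q, by simp only [← map_mul, K2.el_mul, top_add]⟩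
      one_mem' := ⟨.o, by simp only [show topForm .o = Herm.zero from rfl, K2.el_zero, map_one]⟩
      inv_mem' := by
        rintro _ ⟨p, rfl⟩
        exact ⟨p, eq_inv_of_mul_eq_one_left (by simp only [← map_mul, K2.el_sq, map_one])⟩ }
  set L1 := H1 ⊓ R.comap U.π
  set L2 := H2 ⊓ T.comap U.π
  have h21 : L2 ≤ normalizer (L1 : Set C) := by
    have hone : ∀ c ∈ L2, ∀ x ∈ L1, c * x * c⁻¹ ∈ L1 := by
      rintro c ⟨-, w, ew⟩ x ⟨hx1, p, ep⟩
      refine ⟨hinv1 c (fun y hy => U.conj_grp K1 (ht w).2.1 ew.symm hy) x hx1, ?_⟩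
      obtain ⟨x', y', e⟩ := low_row w p.1 p.2
      refine ⟨(x', y'), ?_⟩
      show U.φ (K1.el (rowForm x' y')) = U.π (c * x * c⁻¹)
      rw [← K1.el_conj (ht w).2.1 (ht w).2.2 e, map_mul, map_mul, map_inv, map_mul, map_mul, map_inv, ← ew, ← ep]
    exact fun c hc => mem_normalizer_iff.2 fun x => ⟨hone c hc x, fun h => by
      simpa [mul_assoc] using hone c⁻¹ (inv_mem hc) _ h⟩
  set L := L1 ⊔ L2
  have hL : ∀ y ∈ L, ∃ a ∈ L1, ∃ b ∈ L2, a * b = y := fun y hy => by
    have hy' : y ∈ ((L1 ⊔ L2 : Subgroup C) : Set C) := hy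
    rw [Subgroup.coe_mul_of_right_le_normalizer_left _ _ h21, Set.mem_mul] at hy'
    exact hy'
  have hLH : L ≤ normalizer (Hc : Set C) := by
    have hone : ∀ (c : C) (g : U.H.SIsom), K.frame.Stab g → U.π c = U.φ g → ∀ x ∈ Hc, c * x * c⁻¹ ∈ Hc :=
      fun c g hg e => hinv c fun y hy => U.conj_grp K hg e hy
    refine sup_le (fun c hc => mem_normalizer_iff.2 fun x => ⟨?_, fun h => ?_⟩)
      (fun c hc => mem_normalizer_iff.2 fun x => ⟨?_, fun h => ?_⟩)
    · obtain ⟨p, ep⟩ := hc.2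
      exact hone c _ (hr p.1 p.2).1 ep.symm x
    · obtain ⟨p, ep⟩ := (inv_mem hc : c⁻¹ ∈ L1).2
      simpa [mul_assoc] using hone c⁻¹ _ (hr p.1 p.2).1 ep.symm _ h
    · obtain ⟨w, ew⟩ := hc.2
      exact hone c _ (ht w).1.1 ew.symm x
    · obtain ⟨w, ew⟩ := (inv_mem hc : c⁻¹ ∈ L2).2
      simpa [mul_assoc] using hone c⁻¹ _ (ht w).1.1 ew.symm _ h
  set Kc := Hc ⊔ L with hKc
  have hK : ∀ y ∈ Kc, ∃ a ∈ Hc, ∃ b ∈ L1, ∃ c ∈ L2, a * (b * c) = y := fun y hy => by
    have hy' : y ∈ ((Hc ⊔ L : Subgroup C) : Set C) := hy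
    rw [Subgroup.coe_mul_of_right_le_normalizer_left _ _ hLH, Set.mem_mul] at hy'
    obtain ⟨a, ha, l, hl, e⟩ := hy'
    obtain ⟨b, hb, c, hc, rfl⟩ := hL l hl
    exact ⟨a, ha, b, hb, c, hc, e⟩
  -- the image
  have himg : ∀ q, q ∈ Kc.map U.π ↔ ∃ h x y w, U.φ (tri h x y w) = q := by
    intro q
    constructor
    · rintro ⟨y, hy, rfl⟩
      obtain ⟨a, ha, b, hb, c, hc, rfl⟩ := hK y hy
      obtain ⟨h, eh⟩ := (U.mem_grp K).1 (hle ha)
      obtain ⟨p, ep⟩ := hb.2
      obtain ⟨w, ew⟩ := hc.2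
      exact ⟨h, p.1, p.2, w, by simp only [tri, map_mul]; rw [← eh, ← ep, ← ew]⟩
    · rintro ⟨h, x, y, w, rfl⟩
      have hsheet : ∀ (K' : Coord U.H) (H' : Subgroup C), (∀ a ∈ U.grp K', a ∈ H' ∨ U.z * a ∈ H') →
          ∀ f, ∃ a ∈ H', U.π a = U.φ (K'.el f) := fun K' H' hh f => by
        obtain ⟨a, ha⟩ := U.double.surj (U.φ (K'.el f))
        rcases hh a ((U.mem_grp K').2 ⟨f, ha.symm⟩) with h' | h'
        · exact ⟨a, h', ha⟩
        · exact ⟨_, h', by rw [map_mul, U.z_ker, one_mul, ha]⟩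
      obtain ⟨a, ha, ea⟩ := hsheet K Hc hhalf h
      obtain ⟨b, hb, eb⟩ := hsheet K1 H1 hhalf1 (rowForm x y)
      obtain ⟨c, hc, ec⟩ := hsheet K2 H2 hhalf2 (topForm w)
      refine ⟨a * (b * c), mul_mem (mem_sup_left ha) (mem_sup_right (mul_mem (mem_sup_left ⟨hb, (x, y), eb.symm⟩)
        (mem_sup_right ⟨hc, w, ec.symm⟩))), ?_⟩
      simp only [tri, map_mul, ea, eb, ec]
  have hzK : U.z ∉ Kc := by
    intro h
    obtain ⟨a, ha, b, hb, c, hc, e⟩ := hK _ h
    obtain ⟨f, ef⟩ := (U.mem_grp K).1 (hle ha)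
    obtain ⟨⟨x, y⟩, ep⟩ := hb.2
    obtain ⟨w, ew⟩ := hc.2
    have h0 : U.φ (tri f x y w) = U.φ (tri Herm.zero .o .o .o) := by
      rw [hzero, map_one, ← U.z_ker, ← e]
      simp only [tri, map_mul]; rw [← ef, ← ep, ← ew]
    obtain ⟨rfl, rfl, rfl, rfl⟩ := htri h0
    have hone : ∀ {H' : Subgroup C}, U.z ∉ H' → ∀ t ∈ H', U.π t = 1 → t = 1 := fun hz' t ht' et => by
      rcases U.double.ker t et with r | r
      · exact r
      · exact absurd (r ▸ ht') hz'
    have ea := hone hz a ha (by rw [← ef, K.el_zero, map_one])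
    have eb := hone hz1 b hb.1 (by
      rw [← ep]; show U.φ (K1.el (rowForm .o .o)) = 1
      rw [show rowForm .o .o = Herm.zero from rfl, K1.el_zero, map_one])
    have ec := hone hz2 c hc.1 (by
      rw [← ew]; show U.φ (K2.el (topForm .o)) = 1
      rw [show topForm .o = Herm.zero from rfl, K2.el_zero, map_one])
    rw [ea, eb, ec, one_mul, one_mul] at e
    exact U.z_ne e.symm
  have hcard : Nat.card ↥(Kc.map U.π) = 32768 := by
    have h4 : Nat.card Q4 = 4 := by rw [Nat.card_eq_fintype_card]; decide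
    rw [← Nat.card_congr (Equiv.ofBijective
      (fun p : Herm × Q4 × Q4 × Q4 => (⟨U.φ (tri p.1 p.2.1 p.2.2.1 p.2.2.2), (himg _).2 ⟨_, _, _, _, rfl⟩⟩ : ↥(Kc.map U.π)))
      ⟨fun p q e => by
        obtain ⟨a, b, c, d⟩ := htri (congrArg Subtype.val e)
        exact Prod.ext a (Prod.ext b (Prod.ext c d)),
      fun ⟨q, hq⟩ => by
        obtain ⟨h, x, y, w, e⟩ := (himg q).1 hq
        exact ⟨(h, x, y, w), Subtype.ext e⟩⟩), Nat.card_prod, Nat.card_prod, Nat.card_prod, card_herm, h4]
  -- transfer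
  set P := (Kc.map U.π).comap U.π with hP
  have hcases : ∀ p ∈ P, p ∈ Kc ∨ U.z * p ∈ Kc := by
    rintro p ⟨k, hk, e⟩
    rcases lift_cases_mul U e with h | h
    · exact Or.inl (h ▸ hk)
    · exact Or.inr (h ▸ hk)
  have hzP : U.z ∈ P := by
    show U.π U.z ∈ Kc.map U.π
    rw [U.z_ker]; exact one_mem _
  let χ : ↥P →* Multiplicative (ZMod 2) := MonoidHom.mk'
    (fun p => if p.1 ∈ Kc then 1 else Multiplicative.ofAdd 1) fun p q => by
    have hzz : ∀ t, t ∉ Kc → t ∈ P → U.z * t ∈ Kc := fun t h1 h2 => (hcases t h2).resolve_left h1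
    simp only [Subgroup.coe_mul]
    by_cases hp : p.1 ∈ Kc <;> by_cases hq : q.1 ∈ Kc
    · simp [hp, hq, mul_mem hp hq]
    · have : p.1 * q.1 ∉ Kc := fun h => hq (by simpa using mul_mem (inv_mem hp) h)
      simp [hp, hq, this]
    · have : p.1 * q.1 ∉ Kc := fun h => hp (by simpa [mul_assoc] using mul_mem h (inv_mem hq))
      simp [hp, hq, this]
    · have : p.1 * q.1 ∈ Kc := by
        have h := mul_mem (hzz _ hp p.2) (hzz _ hq q.2)
        rwa [(U.double.central p.1).symm.mul_mul_mul_comm, U.double.sq, one_mul] at h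
      simp [hp, hq, this]
      decide
  have hindex : P.index = 280665 := by
    rw [hP, Subgroup.index_comap_of_surjective _ U.double.surj]
    have h := Subgroup.card_mul_index (Kc.map U.π)
    rw [hcard, hQ] at h
    omega
  have htr : ∀ g : C, χ.transfer g = 1 := fun g => by
    have hg : g ∈ commutator C := by rw [hperf]; trivial
    exact MonoidHom.mem_ker.1 (Abelianization.commutator_subset_ker _ hg)
  have hkey := MonoidHom.transfer_eq_pow χ U.z fun k g₀ _ => by
    rw [mul_assoc, ((U.double.central g₀).pow_left k).eq, inv_mul_cancel_left]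
  rw [htr U.z] at hkey
  have hpow : U.z ^ P.index = U.z := by
    rw [hindex, show 280665 = 2 * 140332 + 1 by norm_num, pow_succ, pow_mul, pow_two, U.double.sq, one_pow, one_mul]
  have : χ ⟨U.z, hzP⟩ = 1 := by
    rw [hkey]; congr 1; exact Subtype.ext hpow.symm
  simp [χ, hzK] at this
where
  lift_cases_mul {F : Type u} [Field F] {V : Type v} [AddCommGroup V] [Module F V] {C : Type w} [Group C]
      {Q : Type w'} [Group Q] (U : Setup F V C Q) {x y : C} (e : U.π x = U.π y) : x = y ∨ x = U.z * y :=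
    Cfsg.Lib.DoubleCover.lift_cases U.double e

end Setup

end Cfsg.Lib.USixFusion
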